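import Cfsg.Agent.Mrg.Omega.OM.Lev.Low.Full
import Cfsg.Agent.Mrg.Omega.NO3S.SNL.OfL
import Cfsg.Agent.Mrg.Omega.NO3S.Sym.Light
import Cfsg.Agent.Mrg.Omega.OM.Lev.Low.Core
import Cfsg.Agent.Mrg.Omega.OM.Lev.Low.PushRes

section


/-!
# TORUS over the frame of `S₅` (two pairs): the line

`FrL B Q V X ZJ L W Z C A 2`, `c ≤ V` of order `4`, `N = C_X(K)`, `τ ∈ K` acting on `c` without fixed points; no
element of `Z l` is conjugate to `w b`, `w ∈ W l - Z l`, `1 ≠ b ∈ Z_J ∩ C l` (in `S₅`: light and heavy):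

* `line5` : `c = W l` for one `l`, and `Z m ≤ N` for `m ≠ l`.
-/

set_option autoImplicit false
set_option linter.unusedSectionVars false

namespace Cfsg.Agent.Omega.NO3S.Sym.LineFive

open Subgroup Cfsg Cfsg.Agent.ZN.ChoiceBase Cfsg.Agent.ZN.ChoiceSit
open Cfsg.Agent.ZN (jj zj bau zc zl o2)
open Cfsg.Agent.Omega.OM.Lev.Uni (FrL)
open Cfsg.Agent.Omega.OM.Lev.Low Cfsg.Agent.Omega.OM.Lev.Low.Line
open Cfsg.Agent.Omega.SQ1.Bau (elem_comm elem_sq)

universe u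

variable {G : Type u} [Group G] {ι : Type*} {B Q V X ZJ : Subgroup G} {L W Z C A : ι → Subgroup G}

section base

variable (h : FrL B Q V X ZJ L W Z C A 2)
include h

/-- **The line is `W l`.** -/
theorem line5 [Finite G] [Finite ι]
    (hHL : ∀ l, ∀ z ∈ Z l, z ≠ 1 → ∀ w ∈ W l, w ∉ Z l → ∀ b ∈ ZJ, b ∈ C l → b ≠ 1 → ∀ g : G, g * z * g⁻¹ ≠ w * b)
    {c N : Subgroup G} (hcV : c ≤ V) (hc4 : Nat.card c = 4) (hfix : ∀ x ∈ X, ∃ a ∈ c, a * x ∈ N)
    (htriv : c ⊓ N = ⊥) (hBc : ∀ b ∈ B, ∀ x ∈ c, b * x * b⁻¹ ∈ c) (hBN : ∀ b ∈ B, ∀ x ∈ N, b * x * b⁻¹ ∈ N)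
    (hZJ : ¬ ZJ ≤ N) {τ : G} (hτc : ∀ x ∈ c, τ * x * τ⁻¹ ∈ c) (hτ1 : ∀ x ∈ c, τ * x * τ⁻¹ = x → x = 1) :
    ∃ l, c = W l ∧ ∀ m, m ≠ l → Z m ≤ N := by
  classical
  -- a root element which centralises `c` has its `Z i` in `N`
  have key1 : ∀ i, (∀ t ∈ A i, ∀ x ∈ c, t * x = x * t) → Z i ≤ N := by
    intro i hi z hz
    have hne := h.Ane i
    push Not at hne
    obtain ⟨t, ht, w0, hw0, hne⟩ := hne
    obtain ⟨w, hw, e⟩ := exists_comm h (h.AB i ht) (fun hh => hne (hh w0 hw0)) hz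
    have hwV : w ∈ V := h.WV i hw
    obtain ⟨a, ha, haN⟩ := hfix w (h.VX hwV)
    have haV := hcV ha
    have h1 := hBN t (h.AB i ht) _ haN
    have h2 := mul_mem haN h1
    have hta : t * a * t⁻¹ = a := mul_inv_eq_iff_eq_mul.2 (hi t ht a ha)
    have htw : t * w * t⁻¹ ∈ V := h.LV i t ((h.blk i).BL (h.AB i ht)) w hwV
    have e1 : a * w * (t * (a * w) * t⁻¹) = w * (t * w * t⁻¹) := by
      have e2 : t * (a * w) * t⁻¹ = a * (t * w * t⁻¹) := by
        calc t * (a * w) * t⁻¹ = (t * a * t⁻¹) * (t * w * t⁻¹) := by group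
          _ = _ := by rw [hta]
      rw [e2]
      calc a * w * (a * (t * w * t⁻¹)) = a * (w * a) * (t * w * t⁻¹) := by group
        _ = (a * a) * w * (t * w * t⁻¹) := by rw [mc h hwV haV]; group
        _ = _ := by rw [mi h haV, one_mul]
    rwa [e1, e] at h2
  -- (1)
  obtain ⟨l, t, ht, x0, hx0, hne⟩ : ∃ l, ∃ t ∈ A l, ∃ x ∈ c, t * x ≠ x * t := by
    by_contra hcon
    push Not at hcon
    exact hZJ (zj_le h fun i => key1 i fun t ht x hx => hcon i t ht x hx)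
  -- (2)
  have hxV := hcV hx0
  have h1 : t * x0 * t⁻¹ * x0⁻¹ ∈ Z l := h.A_comm ht hxV
  have h2 : t * x0 * t⁻¹ * x0⁻¹ ∈ c := mul_mem (hBc t (h.AB l ht) x0 hx0) (inv_mem hx0)
  have h3 : t * x0 * t⁻¹ * x0⁻¹ ≠ 1 := fun e => hne (mul_inv_eq_iff_eq_mul.1 (mul_inv_eq_one.1 e))
  have hZc : Z l ≤ c := by
    intro z hz
    by_cases hz1 : z = 1
    · rw [hz1]; exact one_mem _
    · rw [Z_two h hz hz1 h1 h3]; exact h2
  obtain ⟨zl, hzl, hzl1⟩ := exists_z h l
  -- (3)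
  have hidx : ((Z l).subgroupOf c).index = 2 := by
    have e1 := Subgroup.card_mul_index ((Z l).subgroupOf c)
    have e2 : Nat.card ((Z l).subgroupOf c) = 2 := by
      rw [Nat.card_congr (subgroupOfEquivOfLe hZc).toEquiv, h.cardZ l]
    rw [e2, hc4] at e1
    omega
  have h4 : ∀ b ∈ B, ∀ x ∈ c, b * x * b⁻¹ * x⁻¹ ∈ Z l := by
    intro b hb x hx
    have hbx := hBc b hb x hx
    by_cases hxZ : x ∈ Z l
    · rw [(h.blk l).cZ b hb x hxZ]
      simp [one_mem]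
    · have hbxZ : b * x * b⁻¹ ∉ Z l := by
        intro h5
        apply hxZ
        have h6 := (h.blk l).cZ b hb _ h5
        have e : x = b * x * b⁻¹ := by
          have h7 : b * x = b * (b * x * b⁻¹) := by rw [h6]; group
          exact mul_left_cancel h7
        rw [e]; exact h5
      have h5 := Subgroup.mul_mem_iff_of_index_two hidx (a := ⟨b * x * b⁻¹, hbx⟩) (b := ⟨x, hx⟩⁻¹)
      have h6 : ((⟨b * x * b⁻¹, hbx⟩ * ⟨x, hx⟩⁻¹ : c) : G) = b * x * b⁻¹ * x⁻¹ := rfl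
      rw [mem_subgroupOf, mem_subgroupOf, mem_subgroupOf, h6] at h5
      refine h5.2 (iff_of_false hbxZ ?_)
      intro h7
      exact hxZ (by simpa using h7)
  -- (4)
  have h5 : ∀ x ∈ c, ∃ w ∈ W l, ∃ b ∈ C l, b ∈ ZJ ∧ x = w * b := by
    intro x hx
    obtain ⟨w, hw, b', hb', rfl⟩ := h.WC l x (hcV hx)
    refine ⟨w, hw, b', hb', (h.mem_ZJ b').2 ⟨h.CV l hb', fun b hb => ?_⟩, rfl⟩
    have h6 := h4 b hb _ hx
    have h7 := (h.blk l).BV hb hw
    have h8 := h.BC l b hb b' hb'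
    have e : b * (w * b') * b⁻¹ * (w * b')⁻¹ = (b * w * b⁻¹ * w⁻¹) * (b * b' * b⁻¹ * b'⁻¹) := by
      calc b * (w * b') * b⁻¹ * (w * b')⁻¹ = (b * w * b⁻¹) * ((b * b' * b⁻¹ * b'⁻¹) * w⁻¹) := by group
        _ = (b * w * b⁻¹) * (w⁻¹ * (b * b' * b⁻¹ * b'⁻¹)) := by
          rw [mc h (h.CV l (mul_mem h8 (inv_mem hb'))) (inv_mem (h.WV l hw))]
        _ = _ := by group
    rw [e] at h6
    have h9 : b * b' * b⁻¹ * b'⁻¹ ∈ W l :=
      (mul_mem_cancel_left (mul_mem h7 (inv_mem hw))).1 (ZW h l h6)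
    have h10 := one_of h h9 (mul_mem h8 (inv_mem hb'))
    exact mul_inv_eq_iff_eq_mul.1 (mul_inv_eq_one.1 h10)
  -- (5)
  have h6 : ∀ m, m ≠ l → Z m ≤ N := by
    intro m hm
    refine key1 m fun s hs x hx => ?_
    obtain ⟨w, hw, b, hb, hbZ, rfl⟩ := h5 x hx
    have c1 : Commute s w := h.AC m s hs w (h.WjC m l hm hw)
    have c2 : Commute s b := ((h.mem_ZJ b).1 hbZ).2 s (h.AB m hs)
    exact (c1.mul_right c2).eq
  -- (6) every element of `c` is a conjugate of `zl`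
  have hzlc : zl ∈ c := hZc hzl
  have horb : ∀ x ∈ c, x ≠ 1 → ∃ g : G, g * zl * g⁻¹ = x := by
    intro x hx hx1
    by_cases hxz : x = zl
    · exact ⟨1, by rw [hxz]; group⟩
    have e1 := hτc zl hzlc
    have e1n : τ * zl * τ⁻¹ ≠ zl := fun e => hzl1 (hτ1 zl hzlc e)
    have e11 : τ * zl * τ⁻¹ ≠ 1 := fun e => hzl1 (conj_eq_one_iff.1 e)
    by_cases hx2 : x = τ * zl * τ⁻¹
    · exact ⟨τ, hx2.symm⟩
    -- the third element
    have e2 := hτc _ e1
    have e2n : τ * (τ * zl * τ⁻¹) * τ⁻¹ ≠ τ * zl * τ⁻¹ := fun e => e11 (hτ1 _ e1 e)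
    have e21 : τ * (τ * zl * τ⁻¹) * τ⁻¹ ≠ 1 := fun e => e11 (conj_eq_one_iff.1 e)
    have e3 : τ * (τ * zl * τ⁻¹) * τ⁻¹ ≠ zl := by
      intro e
      have hV1 : zl ∈ V := h.ZV l hzl
      have hV2 : τ * zl * τ⁻¹ ∈ V := hcV e1
      have hp : τ * (zl * (τ * zl * τ⁻¹)) * τ⁻¹ = zl * (τ * zl * τ⁻¹) := by
        calc τ * (zl * (τ * zl * τ⁻¹)) * τ⁻¹ = (τ * zl * τ⁻¹) * (τ * (τ * zl * τ⁻¹) * τ⁻¹) := by group
          _ = (τ * zl * τ⁻¹) * zl := by rw [e]
          _ = _ := mc h hV2 hV1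
      have h7 := hτ1 _ (mul_mem hzlc e1) hp
      apply e1n
      have h8 : zl⁻¹ = τ * zl * τ⁻¹ := inv_eq_of_mul_eq_one_right h7
      rw [← h8, inv_eq h hV1]
    by_cases hx3 : x = τ * (τ * zl * τ⁻¹) * τ⁻¹
    · exact ⟨τ * τ, by rw [hx3]; group⟩
    exfalso
    -- five elements in a group of order four
    let f : Fin 5 → c := ![1, ⟨zl, hzlc⟩, ⟨_, e1⟩, ⟨_, e2⟩, ⟨x, hx⟩]
    have hf : Function.Injective f := by
      intro a b hab
      have hv := congrArg (Subtype.val : c → G) hab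
      fin_cases a <;> fin_cases b <;> simp [f] at hv ⊢ <;> first
        | exact absurd hv hzl1 | exact absurd hv.symm hzl1
        | exact absurd hv e11 | exact absurd hv.symm e11
        | exact absurd hv e21 | exact absurd hv.symm e21
        | exact absurd hv hx1 | exact absurd hv.symm hx1
        | exact absurd hv e1n | exact absurd hv.symm e1n
        | exact absurd hv e2n | exact absurd hv.symm e2n
        | exact absurd hv e3 | exact absurd hv.symm e3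
        | exact absurd hv hxz | exact absurd hv.symm hxz
        | exact absurd hv hx2 | exact absurd hv.symm hx2
        | exact absurd hv hx3 | exact absurd hv.symm hx3
    have := Nat.card_le_card_of_injective f hf
    rw [Nat.card_eq_fintype_card, Fintype.card_fin, hc4] at this
    omega
  have hcW : c ≤ W l := by
    intro x hx
    obtain ⟨w, hw, b, hb, hbZ, rfl⟩ := h5 x hx
    by_cases hb1 : b = 1
    · rw [hb1, mul_one]; exact hw
    exfalso
    by_cases hwZ : w ∈ Z l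
    · have h7 : b ∈ c := (mul_mem_cancel_left (hZc hwZ)).1 hx
      have h8 : b ∈ c ⊓ N := mem_inf.2 ⟨h7, ZJ_C_le h h6 hbZ hb⟩
      rw [htriv] at h8
      exact hb1 (mem_bot.1 h8)
    · have hx1 : w * b ≠ 1 := by
        intro e
        apply hb1
        have h7 : b ∈ W l := by
          have : b = w⁻¹ := (inv_eq_of_mul_eq_one_right e).symm
          rw [this]; exact inv_mem hw
        exact one_of h h7 hb
      obtain ⟨g, hg⟩ := horb _ hx hx1
      exact hHL l zl hzl hzl1 w hw hwZ b hbZ hb hb1 g hg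
  refine ⟨l, ?_, h6⟩
  have hWl : Nat.card (W l) = 4 := by rw [(h.blk l).card, h.cardZ l]
  exact Subgroup.eq_of_le_of_card_ge hcW (by rw [hWl, hc4])

end base

end Cfsg.Agent.Omega.NO3S.Sym.LineFive

end

section


/-!
# LEMMA Q and LEMMA N at a level for `V_P` = even subsets of `2^m + 1` points, `m ≥ 2` (so `S_5` is allowed)

Port of `SNL/Lev.lean`, `SNL/OfL.lean` (`m ≥ 3` there) to `m ≥ 2`:

* `LHyp.mem` : LEMMA Q; `LHyp.lemN` : LEMMA N (`O₂(P) ≤ N_G(V^g)` implies `V^g = V`); `LHyp.two_le`; `LHyp.ctl`;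
* `lhyp` : the hypotheses at a level from `SymKM`;
* **`lemN_lev`**, **`lemN_neg`** : LEMMA N at the stages `n` and `-1` from `SymKM`.
-/

set_option autoImplicit false
set_option linter.unusedSectionVars false
set_option linter.unusedVariables false

namespace Cfsg.Agent.Omega.NO3S.Sym.LemN

open Subgroup Cfsg Cfsg.Agent.PLocal.ThompsonJ Cfsg.Agent.ZN Cfsg.Agent.ZN.ChoiceBase
open Cfsg.Agent.PLocal.ElemAbSup
open Cfsg.Agent.Omega.MinPar Cfsg.Agent.Omega.Frame Cfsg.Agent.Omega.FrameNOFF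
open Cfsg.Agent.Omega.S5.Def Cfsg.Agent.Omega.S5.Syl Cfsg.Agent.Omega.S5.Pair
open Cfsg.Agent.Omega.NSix.Base Cfsg.Agent.Omega.NSix.Basic
open Cfsg.Agent.ZN.ChoiceSit (Syl exists_syl syl_conj)
open Cfsg.Agent.Omega.SQ1.Bau (elem_comm elem_sq mem_sup_comm card_sup_comm)
open Cfsg.Agent.Omega.NSix.CaseJ.Exact (card_le_two two_mul_card_le mem_zp card_sup_zp zp_elem sup_elem)
open Cfsg.Agent.Omega.NSix.CaseJ.Base (rr_eq)
open Cfsg.Agent.Omega.NSix.CaseJ.LemQ (comm_four comm_of_conj exists_ne)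
open Cfsg.Agent.Omega.NO1.BestOff (Best)
open Cfsg.Agent.Omega.NO3S.SNL (count ExL swap_of_tv)
open Cfsg.Agent.Omega.NO3S.Level (Lev BO nxt lev lev_isLev)
open Cfsg.Agent.Omega.FFThm (SymKM SymK)
open Cfsg.Agent.Omega.FrameFF (cv)
open Cfsg.Agent.Omega.NO3S (HypN HypJ)
open scoped Pointwise commutatorElement

universe u

variable {G : Type u} [Group G] [Finite G] {S : Sylow 2 G} {P : Subgroup G} {m : ℕ}
  {ε : (Fin (2 ^ m + 1) → ZMod 2) → G}

/-- The data (`SN.Hyp` with `2 ≤ m`). -/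
structure Dat (S : Sylow 2 G) (P : Subgroup G) (m : ℕ) (ε : (Fin (2 ^ m + 1) → ZMod 2) → G) : Prop where
  ch2 : IsCharacteristicTwoType G
  star : IsParS (S : Subgroup G) P
  nonLoc : NonLoc P (CZ (S : Subgroup G))
  m2 : 2 ≤ m
  ev : EvenSet (2 ^ m + 1) (zl (S : Subgroup G) P) P ε
  fix0 : Fix0 ε (S : Subgroup G)

omit [Finite G] in
theorem five_le {m : ℕ} (h : 2 ≤ m) : 5 ≤ 2 ^ m + 1 := by
  have h1 : 2 ^ 2 ≤ 2 ^ m := Nat.pow_le_pow_right (by norm_num) h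
  omega

/-- The hypotheses at a level. -/
structure LHyp (S : Sylow 2 G) (P : Subgroup G) (m : ℕ) (ε : (Fin (2 ^ m + 1) → ZMod 2) → G) (X : Subgroup G) : Prop
    extends Dat S P m ε where
  elX : IsElementaryAbelian 2 X
  VX : zl (S : Subgroup G) P ≤ X
  XQ : X ≤ o2 P
  XP : P ≤ normalizer (X : Set G)
  oz : ∀ u ∈ o2 P, u * u = 1 → (∀ q ∈ o2 P, q * u = u * q) → u ∈ zl (S : Subgroup G) P
  exA : ∀ i j, i ≠ j → ∃ A, ExL P X ε i j A
  wc : ∀ g : G, o2 P ≤ normalizer ((cj g (zl (S : Subgroup G) P) : Subgroup G) : Set G) →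
    cj g (zl (S : Subgroup G) P) ≤ X

section core

variable {X : Subgroup G} (h : LHyp S P m ε X) {i j : Fin (2 ^ m + 1)} {A : Subgroup G}

include h in
theorem LHyp.three : 3 ≤ 2 ^ m + 1 := by have := five_le h.m2; omega

include h in
theorem LHyp.VcQ {x v : G} (hx : x ∈ o2 P) (hv : v ∈ zl (S : Subgroup G) P) : x * v = v * x := by
  rw [← IsParS.inf_centralizer S h.ch2 h.star] at hx
  exact (mem_centralizer_iff.1 hx.2 v hv).symm

include h in
theorem LHyp.Qn {g x : G} (hg : g ∈ P) (hx : x ∈ o2 P) : g * x * g⁻¹ ∈ o2 P :=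
  (mem_normalizer_iff.1 (ChoiceSit.le_normalizer_o2 P hg) x).1 hx

include h in
theorem LHyp.Xn {g x : G} (hg : g ∈ P) (hx : x ∈ X) : g * x * g⁻¹ ∈ X :=
  (mem_normalizer_iff.1 (h.XP hg) x).1 hx

include h in
theorem LHyp.Vn {g x : G} (hg : g ∈ P) (hx : x ∈ zl (S : Subgroup G) P) : g * x * g⁻¹ ∈ zl (S : Subgroup G) P :=
  (mem_normalizer_iff.1 (MinSimple.VModule.le_normalizer_zl (S : Subgroup G) P hg) x).1 hx

include h in
theorem LHyp.card_A0 (hA : ExL P X ε i j A) (hij : i ≠ j) :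
    Nat.card A = 2 * Nat.card ↥(A ⊓ centralizer (zl (S : Subgroup G) P : Set G)) := by
  obtain ⟨a, ha, ha'⟩ := hA.ex
  refine le_antisymm (card_le_two (c := a) fun y hy hyC => ?_) (two_mul_card_le inf_le_left fun hle => ?_)
  · rcases hA.act y hy with h1 | h1
    · exact absurd ⟨hy, h.ev.acts_one_iff.1 h1⟩ hyC
    · exact ⟨A.mul_mem (A.inv_mem ha) hy, h.ev.mem_centralizer_of_acts h1 ha'⟩
  · have h1 := h.ev.acts_one_iff.2 (hle ha).2
    have h2 := h.ev.acts_unique h.three h1 ha'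
    have h3 := Equiv.swap_apply_left i j
    rw [← h2] at h3
    exact hij h3

include h in
/-- **The step of LEMMA Q**: `u^a ∈ V u`. -/
theorem LHyp.core (hA : ExL P X ε i j A) (hij : i ≠ j) {u v a u' : G}
    (hu : u ∈ X) (hv : v ∈ zl (S : Subgroup G) P)
    (huR : ∀ r ∈ o2 P, r * u * r⁻¹ = u ∨ r * u * r⁻¹ = v * u)
    (ha : a ∈ A) (ha' : Acts ε a (Equiv.swap i j)) (hva : a * v * a⁻¹ ≠ v)
    (hu' : u' = a * u * a⁻¹) : ∃ w ∈ zl (S : Subgroup G) P, u' = w * u := by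
  classical
  obtain ⟨V, hV⟩ : ∃ V, V = zl (S : Subgroup G) P := ⟨_, rfl⟩
  rw [← hV] at hv ⊢
  set A0 := A ⊓ centralizer (V : Set G) with hA0
  have hAR : A0 ≤ o2 P := fun b hb => hA.cV b hb.1 (h.ev.acts_one_iff.2 (hV ▸ hb.2))
  have haP := hA.AP ha
  have hVX : V ≤ X := hV ▸ h.VX
  have hXc : ∀ {x y : G}, x ∈ X → y ∈ X → x * y = y * x := fun hx hy => elem_comm h.elX _ hx _ hy
  have hXs : ∀ {x : G}, x ∈ X → x * x = 1 := fun hx => by
    have := elem_sq h.elX _ hx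
    rwa [pow_two] at this
  have hVn : ∀ {g x : G}, g ∈ P → x ∈ V → g * x * g⁻¹ ∈ V := fun hg hx => by
    rw [hV] at hx ⊢
    exact h.Vn hg hx
  have hu'X : u' ∈ X := hu' ▸ h.Xn haP hu
  have hu2 : u * u = 1 := hXs hu
  have hu'2 : u' * u' = 1 := hXs hu'X
  -- `a²` centralises `X`
  have hau' : a * u' * a⁻¹ = u := by
    have h1 := mem_centralizer_iff.1 (hA.best.sq a ha) u hu
    calc a * u' * a⁻¹ = (a ^ 2) * u * (a ^ 2)⁻¹ := by rw [hu', pow_two]; group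
      _ = u := by rw [← h1, mul_inv_cancel_right]
  have hVe : IsElementaryAbelian 2 V := isElementaryAbelian_mono h.elX hVX
  set X1 := V ⊔ zpowers u with hX1
  have hVu : ∀ x ∈ V, ∀ y ∈ zpowers u, x * y = y * x := by
    intro x hx y hy
    rcases mem_zp hu2 hy with rfl | rfl
    · rw [mul_one, one_mul]
    · exact hXc (hVX hx) hu
  have hX1X : X1 ≤ X := sup_le hVX (zpowers_le.2 hu)
  have hX1c : ∀ x ∈ X1, x * u' = u' * x := fun x hx => hXc (hX1X hx) hu'X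
  set X' := X1 ⊔ zpowers u' with hX'
  have hX'X : X' ≤ X := sup_le hX1X (zpowers_le.2 hu'X)
  have hX1u : ∀ x ∈ X1, ∀ y ∈ zpowers u', x * y = y * x := by
    intro x hx y hy
    rcases mem_zp hu'2 hy with rfl | rfl
    · rw [mul_one, one_mul]
    · exact hX1c x hx
  have hXe : IsElementaryAbelian 2 X' := isElementaryAbelian_mono h.elX hX'X
  have hVX' : V ≤ X' := le_sup_left.trans le_sup_left
  have huX : u ∈ X' := mem_sup_left (mem_sup_right (mem_zpowers u))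
  have hu'X' : u' ∈ X' := mem_sup_right (mem_zpowers u')
  have hmemX : ∀ x ∈ X', ∃ y ∈ V, x = y ∨ x = y * u ∨ x = y * u' ∨ x = y * u * u' := by
    intro x hx
    obtain ⟨y, hy, z, hz, rfl⟩ := mem_sup_comm hX1u hx
    obtain ⟨w, hw, t, ht, rfl⟩ := mem_sup_comm hVu hy
    refine ⟨w, hw, ?_⟩
    rcases mem_zp hu2 ht with rfl | rfl <;> rcases mem_zp hu'2 hz with rfl | rfl
    · left; rw [mul_one, mul_one]
    · right; right; left; rw [mul_one]
    · right; left; rw [mul_one]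
    · right; right; right; rfl
  have hVc : ∀ b ∈ A0, ∀ y ∈ V, b * y = y * b := fun b hb y hy =>
    (mem_centralizer_iff.1 hb.2 y hy).symm
  have hbu' : ∀ b ∈ A0, b * u' * b⁻¹ = a * (b * u * b⁻¹) * a⁻¹ := by
    intro b hb
    have hbP := hA.AP hb.1
    have h1 := mem_centralizer_iff.1 (hA.best.comm b hb.1 a ha) (a * (b * u * b⁻¹) * a⁻¹)
      (h.Xn haP (h.Xn hbP hu))
    calc b * u' * b⁻¹ = (b * a * b⁻¹ * a⁻¹) * (a * (b * u * b⁻¹) * a⁻¹) * (b * a * b⁻¹ * a⁻¹)⁻¹ := by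
          rw [hu']; group
      _ = a * (b * u * b⁻¹) * a⁻¹ := by rw [← h1, mul_inv_cancel_right]
  -- an element of `A0` centralising `u` centralises `X'`
  have hcX : ∀ b ∈ A0, b * u * b⁻¹ = u → ∀ x ∈ X', b * x = x * b := by
    intro b hb hbu x hx
    obtain ⟨y, hy, hxy⟩ := hmemX x hx
    refine comm_four (hVc b hb y hy) (comm_of_conj hbu) (comm_of_conj ?_) hxy
    rw [hbu' b hb, hbu, hu']
  have hcnt := count h.elX hA.best hX'X
  have hcA := h.card_A0 hA hij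
  rw [← hV, ← hA0] at hcA
  have hijc : ¬ V ≤ X' ⊓ centralizer (A : Set G) := fun hle => by
    have h1 := mem_centralizer_iff.1 (hle (hV ▸ zz_mem h.ev i)).2 a ha
    have h2 := (h.ev.fixes_iff h.three ha' i).1 h1
    rw [Equiv.swap_apply_left] at h2
    exact hij h2.symm
  by_cases hcase : ∀ b ∈ A0, b * u * b⁻¹ = u
  · -- `A0` centralises `X'`
    have h2 : A ⊓ centralizer (X' : Set G) = A0 := by
      apply le_antisymm
      · exact fun b hb => ⟨hb.1, mem_centralizer_iff.2 fun v hv => mem_centralizer_iff.1 hb.2 v (hVX' hv)⟩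
      · exact fun b hb => ⟨hb.1, mem_centralizer_iff.2 fun x hx => (hcX b hb (hcase b hb) x hx).symm⟩
    rw [h2, hcA] at hcnt
    set C := X' ⊓ centralizer (A : Set G) with hC
    have hA0p : 0 < Nat.card A0 := Nat.card_pos
    have h3 : Nat.card X' ≤ 2 * Nat.card C := by
      have h4 : Nat.card A0 * Nat.card X' ≤ Nat.card A0 * (2 * Nat.card C) := by
        calc Nat.card A0 * Nat.card X' = Nat.card X' * Nat.card A0 := mul_comm _ _
          _ ≤ 2 * Nat.card A0 * Nat.card C := hcnt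
          _ = Nat.card A0 * (2 * Nat.card C) := by ring
      exact Nat.le_of_mul_le_mul_left h4 hA0p
    have hcm : ∀ v ∈ V, ∀ c ∈ C, v * c = c * v := fun v hv c hc' => hXc (hVX hv) (hX'X hc'.1)
    have h6 : ¬ V ⊔ C ≤ C := fun hle => hijc (le_sup_left.trans hle)
    have h7 := two_mul_card_le (le_sup_right : C ≤ V ⊔ C) h6
    have h8 : V ⊔ C = X' := Subgroup.eq_of_le_of_card_ge (sup_le hVX' inf_le_left) (h3.trans h7)
    have hux := huX
    rw [← h8] at hux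
    obtain ⟨y, hy, c, hc', e⟩ := mem_sup_comm hcm hux
    have e1 : a * c * a⁻¹ = c := by
      rw [mem_centralizer_iff.1 hc'.2 a ha, mul_inv_cancel_right]
    have e2 : u' = (a * y * a⁻¹) * c := by
      rw [hu', e]
      calc a * (y * c) * a⁻¹ = (a * y * a⁻¹) * (a * c * a⁻¹) := by group
        _ = (a * y * a⁻¹) * c := by rw [e1]
    refine ⟨(a * y * a⁻¹) * y⁻¹, mul_mem (hVn haP hy) (inv_mem hy), ?_⟩
    rw [e2, e]; group
  · -- `A0` moves `u`
    push Not at hcase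
    obtain ⟨b₀, hb₀, hb₀u⟩ := hcase
    have hb₀u' := (huR b₀ (hAR hb₀)).resolve_left hb₀u
    by_contra hcon
    push Not at hcon
    have hv1 : v ≠ 1 := fun e => hb₀u (by rw [hb₀u', e, one_mul])
    obtain ⟨v', hv'⟩ : ∃ v', v' = a * v * a⁻¹ := ⟨_, rfl⟩
    rw [← hv'] at hva
    have hv'V : v' ∈ V := hv' ▸ hVn haP hv
    have hv'1 : v' ≠ 1 := by
      intro e
      apply hv1
      calc v = a⁻¹ * v' * a := by rw [hv']; group
        _ = 1 := by rw [e]; group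
    have hb₀u'' : b₀ * u' * b₀⁻¹ = v' * u' := by
      rw [hbu' b₀ hb₀, hb₀u', hv', hu']
      group
    have hb₀y : ∀ y ∈ V, b₀ * y * b₀⁻¹ = y := fun y hy => by
      rw [hVc b₀ hb₀ y hy, mul_inv_cancel_right]
    -- `C_X'(b₀) = V`
    have hCX : ∀ x ∈ X', b₀ * x * b₀⁻¹ = x → x ∈ V := by
      intro x hx hfix
      obtain ⟨y, hy, rfl | rfl | rfl | rfl⟩ := hmemX x hx
      · exact hy
      · exfalso
        have e : b₀ * (y * u) * b₀⁻¹ = (b₀ * y * b₀⁻¹) * (b₀ * u * b₀⁻¹) := by group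
        rw [e, hb₀y y hy, hb₀u'] at hfix
        exact hv1 (mul_eq_right.1 (mul_left_cancel hfix))
      · exfalso
        have e : b₀ * (y * u') * b₀⁻¹ = (b₀ * y * b₀⁻¹) * (b₀ * u' * b₀⁻¹) := by group
        rw [e, hb₀y y hy, hb₀u''] at hfix
        exact hv'1 (mul_eq_right.1 (mul_left_cancel hfix))
      · exfalso
        have e : b₀ * (y * u * u') * b₀⁻¹ = (b₀ * y * b₀⁻¹) * ((b₀ * u * b₀⁻¹) * (b₀ * u' * b₀⁻¹)) := by
          group
        rw [e, hb₀y y hy, hb₀u', hb₀u'', mul_assoc y u u'] at hfix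
        have h1 := mul_left_cancel hfix
        have h2 : u * v' = v' * u := hXc hu (hVX hv'V)
        have h3 : v * v' * (u * u') = u * u' := by
          calc v * v' * (u * u') = v * (v' * u) * u' := by group
            _ = v * (u * v') * u' := by rw [h2]
            _ = v * u * (v' * u') := by group
            _ = u * u' := h1
        have h4 : v * v' = 1 := mul_eq_right.1 h3
        apply hva
        calc v' = v⁻¹ * (v * v') := by group
          _ = v⁻¹ := by rw [h4, mul_one]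
          _ = v := inv_eq_of_mul_eq_one_left (h.ev.sq_mem (hV ▸ hv))
    have huV : u ∉ V := fun hh => hb₀u (hb₀y u hh)
    have hu'V : u' ∉ V := fun hh => huV (by
      have := hVn haP hh
      rwa [hau'] at this)
    have hcard1 : Nat.card X1 = 2 * Nat.card V := card_sup_zp hu2 huV fun y hy => hXc (hVX hy) hu
    have hu'X1 : u' ∉ X1 := by
      intro hh
      obtain ⟨y, hy, z, hz, e⟩ := mem_sup_comm hVu hh
      rcases mem_zp hu2 hz with h1 | h1
      · rw [h1, mul_one] at e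
        exact hu'V (e ▸ hy)
      · rw [h1] at e
        exact hcon y hy e
    have hcard2 : Nat.card X' = 2 * Nat.card X1 := card_sup_zp hu'2 hu'X1 hX1c
    -- `C_X'(A) < V`
    have hCA : X' ⊓ centralizer (A : Set G) ≤ V := fun x hx => hCX x hx.1 (by
      rw [mem_centralizer_iff.1 hx.2 b₀ hb₀.1, mul_inv_cancel_right])
    have hcard3 := two_mul_card_le hCA hijc
    -- `|A| ≤ 4 |C_A(X')|`
    have hcard4 : Nat.card A0 ≤ 2 * Nat.card ↥(A ⊓ centralizer (X' : Set G)) := by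
      refine card_le_two (c := b₀) fun y hy hyC => ?_
      have hyu : y * u * y⁻¹ ≠ u := fun e => hyC
        ⟨hy.1, mem_centralizer_iff.2 fun x hx => (hcX y hy e x hx).symm⟩
      have hyu' := (huR y (hAR hy)).resolve_left hyu
      have hb : b₀⁻¹ * y ∈ A0 := mul_mem (inv_mem hb₀) hy
      have e3 : b₀⁻¹ * y * u * (b₀⁻¹ * y)⁻¹ = u := by
        calc b₀⁻¹ * y * u * (b₀⁻¹ * y)⁻¹ = b₀⁻¹ * (y * u * y⁻¹) * b₀ := by group
          _ = b₀⁻¹ * (b₀ * u * b₀⁻¹) * b₀ := by rw [hyu', hb₀u']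
          _ = u := by group
      exact ⟨hb.1, mem_centralizer_iff.2 fun x hx => (hcX _ hb e3 x hx).symm⟩
    have hp : 0 < Nat.card V := Nat.card_pos
    have hp2 : 0 < Nat.card ↥(A ⊓ centralizer (X' : Set G)) := Nat.card_pos
    have h3 : Nat.card A ≤ 4 * Nat.card ↥(A ⊓ centralizer (X' : Set G)) := by omega
    have h4 : 2 * (Nat.card X' * Nat.card ↥(A ⊓ centralizer (X' : Set G))) ≤ Nat.card A * Nat.card V := by
      calc 2 * (Nat.card X' * Nat.card ↥(A ⊓ centralizer (X' : Set G)))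
          ≤ 2 * (Nat.card A * Nat.card ↥(X' ⊓ centralizer (A : Set G))) := Nat.mul_le_mul_left _ hcnt
        _ = Nat.card A * (2 * Nat.card ↥(X' ⊓ centralizer (A : Set G))) := by ring
        _ ≤ Nat.card A * Nat.card V := Nat.mul_le_mul_left _ hcard3
    have h5 : Nat.card X' = 4 * Nat.card V := by rw [hcard2, hcard1]; ring
    rw [h5] at h4
    have h6 : Nat.card A * Nat.card V ≤ 4 * Nat.card ↥(A ⊓ centralizer (X' : Set G)) * Nat.card V :=
      Nat.mul_le_mul_right _ h3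
    nlinarith [Nat.mul_pos hp hp2]

end core

namespace LHyp

variable {X : Subgroup G} (h : LHyp S P m ε X)
include h

/-- **LEMMA Q at a level.** -/
theorem mem {u v : G} (hu : u ∈ X) (hv : v ∈ zl (S : Subgroup G) P) (hv1 : v ≠ 1)
    (hc : ∀ q ∈ o2 P, q * u * q⁻¹ = u ∨ q * u * q⁻¹ = v * u) : u ∈ zl (S : Subgroup G) P := by
  obtain ⟨x, hx⟩ := h.ev.surj v hv
  obtain ⟨j, hj⟩ := exists_ne h.ev (x := x) (by rw [hx]; exact hv1)
  have h0j : (0 : Fin (2 ^ m + 1)) ≠ j := fun e => hj (by rw [← e])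
  obtain ⟨A, hA⟩ := h.exA 0 j h0j
  obtain ⟨a, ha, ha'⟩ := hA.ex
  have haP := hA.AP ha
  have hva : a * v * a⁻¹ ≠ v := by
    intro e
    rw [← hx] at e
    exact hj ((swap_comm_iff h.ev h.three h0j ha' x).1 (comm_of_conj e))
  obtain ⟨u', hu'⟩ : ∃ u', u' = a * u * a⁻¹ := ⟨_, rfl⟩
  obtain ⟨v', hv'⟩ : ∃ v', v' = a * v * a⁻¹ := ⟨_, rfl⟩
  have hv'V : v' ∈ zl (S : Subgroup G) P := hv' ▸ h.Vn haP hv
  obtain ⟨w, hw, hw'⟩ := h.core hA h0j hu hv hc ha ha' hva hu'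
  have hu2 : u * u = 1 := by
    have := elem_sq h.elX _ hu
    rwa [pow_two] at this
  refine h.oz u (h.XQ hu) hu2 fun q hq => ?_
  rcases hc q hq with h1 | h1
  · exact comm_of_conj h1
  · exfalso
    obtain ⟨q', hq'⟩ : ∃ q', q' = a * q * a⁻¹ := ⟨_, rfl⟩
    have hq'Q : q' ∈ o2 P := hq' ▸ h.Qn haP hq
    have e1 : q' * u' * q'⁻¹ = v' * u' := by
      calc q' * u' * q'⁻¹ = a * (q * u * q⁻¹) * a⁻¹ := by rw [hq', hu']; group
        _ = v' * u' := by rw [h1, hu', hv']; group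
    rw [hw'] at e1
    have e2 : q' * (w * u) * q'⁻¹ = w * (q' * u * q'⁻¹) := by
      calc q' * (w * u) * q'⁻¹ = (q' * w) * u * q'⁻¹ := by group
        _ = w * (q' * u * q'⁻¹) := by rw [h.VcQ hq'Q hw]; group
    rw [e2, ← mul_assoc v', h.ev.comm_mem hv'V hw, mul_assoc w v'] at e1
    have e3 := mul_left_cancel e1
    rcases hc q' hq'Q with h2 | h2
    · rw [h2, right_eq_mul] at e3
      apply hv1
      calc v = a⁻¹ * v' * a := by rw [hv']; group
        _ = 1 := by rw [e3]; group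
    · rw [h2] at e3
      rw [← hv'] at hva
      exact hva (mul_right_cancel e3).symm

/-- **LEMMA N at a level.** -/
theorem lemN {g : G} (h2 : o2 P ≤ normalizer ((cj g (zl (S : Subgroup G) P) : Subgroup G) : Set G)) :
    g ∈ normalizer (zl (S : Subgroup G) P : Set G) := by
  obtain ⟨V, hV⟩ : ∃ V, V = zl (S : Subgroup G) P := ⟨_, rfl⟩
  have hX := h.wc g h2
  have hM := NSix.Norm.evenSet' h.m2 S h.ev h.star.isLoc.le h.fix0
  have hn : ∀ q ∈ o2 P, g⁻¹ * q * g ∈ normalizer (zl (S : Subgroup G) P : Set G) := by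
    intro q hq
    refine mem_normalizer_of_cj_le ?_
    rintro _ ⟨v, hv, rfl⟩
    change g⁻¹ * q * g * v * (g⁻¹ * q * g)⁻¹ ∈ _
    have h3 : g * v * g⁻¹ ∈ cj g (zl (S : Subgroup G) P) := ⟨v, hv, rfl⟩
    have h4 := (mem_normalizer_iff.1 (h2 hq) _).1 h3
    rw [mem_cj] at h4
    have e : g⁻¹ * (q * (g * v * g⁻¹) * q⁻¹) * g = g⁻¹ * q * g * v * (g⁻¹ * q * g)⁻¹ := by group
    rwa [e] at h4
  let c : o2 P →* normalizer (zl (S : Subgroup G) P : Set G) :=
    { toFun := fun q => ⟨g⁻¹ * q * g, hn q q.2⟩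
      map_one' := Subtype.ext (by change g⁻¹ * 1 * g = 1; group)
      map_mul' := fun a b => Subtype.ext (by
        change g⁻¹ * (a * b) * g = g⁻¹ * a * g * (g⁻¹ * b * g); group) }
  let f : o2 P →* Equiv.Perm (Fin (2 ^ m + 1)) := (hM.hom h.three).comp c
  have hact : ∀ (q : o2 P) x, (q : G) * (g * ε x * g⁻¹) * (q : G)⁻¹ = g * ε (x ∘ (f q).symm) * g⁻¹ := by
    intro q x
    have h3 := hM.acts_hom h.three (c q) x
    change g⁻¹ * q * g * ε x * (g⁻¹ * q * g)⁻¹ = ε (x ∘ (f q).symm) at h3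
    rw [← h3]; group
  have hmemX : ∀ x, g * ε x * g⁻¹ ∈ X := fun x => hX ⟨ε x, h.ev.mem x, rfl⟩
  have hsq : ∀ x, (g * ε x * g⁻¹) * (g * ε x * g⁻¹) = 1 := fun x => by
    calc (g * ε x * g⁻¹) * (g * ε x * g⁻¹) = g * (ε x * ε x) * g⁻¹ := by group
      _ = 1 := by rw [h.ev.sq]; group
  -- vectors fixed by `Q` are in `V`
  have hfixed : ∀ x, (∀ q : o2 P, x ∘ (f q).symm = x) → g * ε x * g⁻¹ ∈ zl (S : Subgroup G) P := by
    intro x hx
    refine h.oz _ (h.XQ (hmemX x)) (hsq x) fun q hq => ?_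
    have h3 := hact ⟨q, hq⟩ x
    rw [hx] at h3
    exact mul_inv_eq_iff_eq_mul.1 h3
  by_cases hf : ∃ q, f q ≠ 1
  · exfalso
    obtain ⟨u, w, hw0, hw1, hw, hu, q, hq⟩ := SN.J.N2.half (Cfsg.Agent.MinSimple.VModule.o2_isPGroup P) (by
      exact Even.add_one (Nat.even_pow.mpr ⟨even_two, by have := h.m2; omega⟩)) f hf
    have hwV := hfixed w hw
    have hwne : g * ε w * g⁻¹ ≠ 1 := by
      intro h0
      have h3 : ε w = 1 := conj_eq_one_iff.1 h0
      rcases (h.ev.ker w).1 h3 with h4 | h4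
      · exact hw0 h4
      · exact hw1 h4
    have hadd : ∀ x y, g * ε (x + y) * g⁻¹ = (g * ε x * g⁻¹) * (g * ε y * g⁻¹) := fun x y => by
      rw [h.ev.add]; group
    have huV : g * ε u * g⁻¹ ∈ zl (S : Subgroup G) P := by
      refine h.mem (hmemX u) hwV hwne fun q hq => ?_
      rcases hu ⟨q, hq⟩ with h3 | h3
      · left
        have h4 := hact ⟨q, hq⟩ u
        rwa [h3] at h4
      · right
        have h4 := hact ⟨q, hq⟩ u
        rw [h3, hadd] at h4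
        exact h4
    have h4 := hact q u
    rw [hq, hadd] at h4
    have h5 : (q : G) * (g * ε u * g⁻¹) * (q : G)⁻¹ = g * ε u * g⁻¹ := by
      rw [h.VcQ q.2 huV]; group
    rw [h5] at h4
    exact hwne (mul_eq_right.1 h4.symm)
  · push Not at hf
    refine mem_normalizer_of_cj_le ?_
    rintro _ ⟨v, hv, rfl⟩
    obtain ⟨x, rfl⟩ := h.ev.surj v hv
    exact hfixed x fun q => by rw [hf q]; rfl

theorem two_le {T : Subgroup G} (hT : IsPGroup 2 T) (hQ : o2 P ≤ T) :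
    T ≤ normalizer (zl (S : Subgroup G) P : Set G) := by
  set L := normalizer (zl (S : Subgroup G) P : Set G) with hL
  have hQL : o2 P ≤ L := (NO3S.OneLine.o2_le S h.star.toIsPar).trans
    (h.star.isLoc.le.trans (MinSimple.VModule.le_normalizer_zl _ _))
  by_contra hcon
  have : Fact (Nat.Prime 2) := ⟨Nat.prime_two⟩
  have hlt : T ⊓ L < T := lt_of_le_of_ne inf_le_left fun e => hcon (inf_eq_left.1 e)
  refine (SporRec.MaxFix.lt_inf_normalizer hT hlt).not_ge ?_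
  rintro t ⟨htT, ht⟩
  refine ⟨htT, h.lemN ?_⟩
  have h2 : cj t (T ⊓ L) = T ⊓ L := cj_eq_of_mem_normalizer ht
  have h3 : o2 P ≤ cj t (T ⊓ L) := by rw [h2]; exact le_inf hQ hQL
  refine h3.trans ((cj_mono t inf_le_right).trans ?_)
  rw [hL, cj_normalizer]

/-- `N_G(V)` controls fusion in `V`. -/
theorem ctl {v g : G} (hv : v ∈ zl (S : Subgroup G) P) (hg : g * v * g⁻¹ ∈ zl (S : Subgroup G) P) :
    ∃ k ∈ normalizer (zl (S : Subgroup G) P : Set G), k * v * k⁻¹ = g * v * g⁻¹ := by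
  set w := g * v * g⁻¹ with hw
  have hQc : o2 P ≤ centralizer (zl (S : Subgroup G) P : Set G) := fun q hq =>
    mem_centralizer_iff.2 fun x hx => (h.VcQ hq hx).symm
  have hQ1 : o2 P ≤ centralizer ({w} : Set G) := hQc.trans (centralizer_le (Set.singleton_subset_iff.2 hg))
  have hQ2 : cj g (o2 P) ≤ centralizer ({w} : Set G) := by
    have h1 := cj_mono g hQc
    rw [cj_centralizer] at h1
    exact h1.trans (centralizer_le (Set.singleton_subset_iff.2 ⟨v, hv, rfl⟩))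
  obtain ⟨T₁, hT₁, hQT₁⟩ := exists_syl (ChoiceSit.isPGroup_o2 P) hQ1
  obtain ⟨T₂, hT₂, hQT₂⟩ := exists_syl (isPGroup_cj g (ChoiceSit.isPGroup_o2 P)) hQ2
  obtain ⟨d, hd, hdT⟩ := syl_conj hT₁ hT₂
  have h1 := h.two_le hT₁.2.1 hQT₁
  have h2 : o2 P ≤ normalizer ((cj (g⁻¹ * d) (zl (S : Subgroup G) P) : Subgroup G) : Set G) := by
    have h3 : cj g (o2 P) ≤ cj d (normalizer (zl (S : Subgroup G) P : Set G)) :=
      hQT₂.trans (hdT ▸ cj_mono d h1)
    rw [← cj_normalizer, ← cj_cj]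
    exact cj_le_iff.1 h3
  have h4 := h.lemN h2
  refine ⟨d⁻¹ * g, by have := inv_mem h4; rwa [mul_inv_rev, inv_inv] at this, ?_⟩
  have h5 : d * w = w * d := mem_centralizer_singleton_iff.1 hd
  calc d⁻¹ * g * v * (d⁻¹ * g)⁻¹ = d⁻¹ * (g * v * g⁻¹) * d := by group
    _ = d⁻¹ * (w * d) := by rw [← hw]; group
    _ = w := by rw [← h5]; group

end LHyp

/-- **Exact best offenders at a level.** -/
theorem exists_exL {ε : (Fin (2 ^ m + 1) → ZMod 2) → G} (h : Dat S P m ε) {K : Subgroup G}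
    (hL : Lev (S : Subgroup G) K) (hK : K ≤ o2 P) (hJ : ∃ A ∈ BO (S : Subgroup G) K, ¬ A ≤ o2 P)
    (N : SymKM (S : Subgroup G) P (zl (S : Subgroup G) P) (cv (S : Subgroup G) P) 1 m)
    {i j : Fin (2 ^ m + 1)} (hij : i ≠ j) : ∃ A, ExL P (zc K) ε i j A := by
  have hcen := NoFF.LinesPlug.inf_eq_bot S h.nonLoc
  obtain ⟨ι, hι, W, d, t, r, Lb, A, hs, -, -, hAn, -, hF⟩ := OM.Lev.Sym.exists_sym_lev FF.Glob.ffthmM h.ch2
    h.star hL hK hcen hJ one_pos (le_trans (by norm_num) h.m2) N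
  obtain ⟨k⟩ := hs.ne
  have hn5 : 5 ≤ 2 ^ m + 1 := five_le h.m2
  have hn3 : 3 ≤ 2 ^ m + 1 := by omega
  have hAS : A k ≤ (S : Subgroup G) := (hAn k).trans (NO3S.Level.nxt_le _ _)
  have hAP : A k ≤ P := hAS.trans h.star.isLoc.le
  -- transvections
  have htv : ∀ a ∈ A k, ∀ v ∈ zl (S : Subgroup G) P, a * v * a⁻¹ = v ∨ a * v * a⁻¹ = v * d k := by
    intro a ha v hv
    obtain ⟨w, hw, c, hc, rfl⟩ := hF.WC k v hv
    have hac := hF.AC k a ha c hc
    have h1 : w⁻¹ * (a * w * a⁻¹) ∈ zpowers (d k) := by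
      refine (hF.blk k).comm_le le_rfl ?_
      have h2 : ⁅w⁻¹, a⁆ ∈ ⁅W k, (S : Subgroup G) ⊓ centralizer (zc (nxt (S : Subgroup G) K) : Set G)⁆ :=
        commutator_mem_commutator (inv_mem hw) (hF.AB k ha)
      rw [commutatorElement_def] at h2
      have e : w⁻¹ * a * w⁻¹⁻¹ * a⁻¹ = w⁻¹ * (a * w * a⁻¹) := by group
      rwa [e] at h2
    have hdV : d k ∈ zl (S : Subgroup G) P := hF.ZV k (mem_zpowers _)
    have hdd : d k * d k = 1 := h.ev.sq_mem hdV
    have hwV := hF.WV k hw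
    have hcV := hF.CV k hc
    have e1 : a * (w * c) * a⁻¹ = w * (w⁻¹ * (a * w * a⁻¹)) * c := by
      calc a * (w * c) * a⁻¹ = a * w * (a⁻¹ * a) * c * a⁻¹ := by group
        _ = (a * w * a⁻¹) * (a * c) * a⁻¹ := by group
        _ = (a * w * a⁻¹) * (c * a) * a⁻¹ := by rw [hac]
        _ = _ := by group
    rcases NSix.CaseJ.Exact.mem_zp hdd h1 with h3 | h3
    · left; rw [e1, h3, mul_one]
    · right
      rw [e1, h3, mul_assoc, h.ev.comm_mem hdV hcV, mul_assoc]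
  have hperm : ∀ a ∈ A k, ∃ σ, Acts ε a σ := fun a ha => h.ev.perm a (hAP ha)
  obtain ⟨a, ha, haW⟩ : ∃ a ∈ A k, ¬ ∀ v ∈ W k, a * v = v * a := by
    by_contra hcon
    push Not at hcon
    exact hF.Ane k hcon
  obtain ⟨σ, hσ⟩ := hperm a ha
  obtain ⟨p, hp⟩ : ∃ p, σ p ≠ p := by
    by_contra hcon
    push Not at hcon
    have e1 : σ = 1 := Equiv.ext hcon
    rw [e1] at hσ
    refine haW fun v hv => ?_
    exact (mem_centralizer_iff.1 (h.ev.acts_one_iff.1 hσ) v (hF.WV k hv)).symm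
  obtain ⟨hσs, hd⟩ := swap_of_tv h.ev hn5 hσ (htv a ha) hp
  have hA : ExL P (zc K) ε p (σ p) (A k) :=
    { AP := hAP
      best := { hF.AX k with max := fun Y hY hYc => hF.best k Y hYc hY }
      act := by
        intro b hb
        obtain ⟨τ, hτ⟩ := hperm b hb
        by_cases hb1 : ∀ q, τ q = q
        · left
          have e1 : τ = 1 := Equiv.ext hb1
          rwa [e1] at hτ
        · right
          push Not at hb1
          obtain ⟨q, hq⟩ := hb1
          obtain ⟨h1, h2⟩ := swap_of_tv h.ev hn5 hτ (htv b hb) hq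
          have h3 : q = p ∨ q = σ p := by
            by_contra hcon
            push Not at hcon
            refine NSix.CaseJ.Fus.rr_ne h.ev hn5 (i := q) (j := τ q) (k := p) (l := σ p) hq.symm hcon.1.symm
              hcon.2.symm ?_
            rw [← h2, ← hd]
          have h4 : τ q = p ∨ τ q = σ p := by
            by_contra hcon
            push Not at hcon
            refine NSix.CaseJ.Fus.rr_ne h.ev hn5 (i := τ q) (j := q) (k := p) (l := σ p) hq hcon.1.symm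
              hcon.2.symm ?_
            rw [rr_symm h.ev, ← h2, ← hd]
          have h5 : τ = Equiv.swap p (σ p) := by
            rw [h1]
            rcases h3 with h3 | h3 <;> rcases h4 with h4 | h4
            · exact absurd (h4.trans h3.symm) hq
            · rw [h3] at h4 ⊢
              rw [h4]
            · rw [h3] at h4 ⊢
              rw [h4, Equiv.swap_comm]
            · exact absurd (h4.trans h3.symm) hq
          rwa [h5] at hτ
      ex := ⟨a, ha, by rwa [← hσs]⟩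
      cV := fun b hb hb1 => by
        rw [← IsParS.inf_centralizer S h.ch2 h.star]
        exact ⟨hAS hb, h.ev.acts_one_iff.1 hb1⟩ }
  obtain ⟨τ, h1, h2, -⟩ := exists_perm hp.symm hij
  obtain ⟨g, hg, hgτ⟩ := h.ev.full τ
  have hX : P ≤ normalizer ((zc K : Subgroup G) : Set G) :=
    (hL.le_norm_of_o2 hK (NO3S.OneLine.o2_le S h.star.toIsPar)).trans (NO3S.Level.normalizer_le_zc K)
  have h3 := hA.conj hg (hX hg) hgτ
  rw [h1, h2] at h3
  exact ⟨_, h3⟩

/-- `Q ≤ N_G(V^g)` implies `V^g ≤ Ω₁(Z(K))`. -/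
theorem wc_line {ε : (Fin (2 ^ m + 1) → ZMod 2) → G} (h : Dat S P m ε) {K : Subgroup G}
    (hL : Lev (S : Subgroup G) K) (hK : K ≤ o2 P) {g : G}
    (hg : o2 P ≤ normalizer ((cj g (zl (S : Subgroup G) P) : Subgroup G) : Set G)) :
    cj g (zl (S : Subgroup G) P) ≤ zc K := by
  have hQS := NO3S.OneLine.o2_le S h.star.toIsPar
  have hVX : zl (S : Subgroup G) P ≤ zc K := (h.star.isLoc.zl_le S h.ch2).trans (hL.zc_o2_le hK hQS)
  have hSV : (S : Subgroup G) ≤ normalizer (zl (S : Subgroup G) P : Set G) :=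
    h.star.isLoc.le.trans (MinSimple.VModule.le_normalizer_zl _ _)
  have hsyl : Syl (cj g (S : Subgroup G)) (normalizer ((cj g (zl (S : Subgroup G) P) : Subgroup G) : Set G)) := by
    refine ⟨?_, isPGroup_cj g S.isPGroup', fun R _ hR hSR => ?_⟩
    · rw [← cj_normalizer]; exact cj_mono g hSV
    · have h1 : (S : Subgroup G) ≤ cj g⁻¹ R := by
        have := cj_mono g⁻¹ hSR
        rwa [cj_inv_cj] at this
      have h2 := S.is_maximal' (isPGroup_cj g⁻¹ hR) h1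
      rw [← h2, cj_cj_inv]
  obtain ⟨T, hT, hQT⟩ := exists_syl (ChoiceSit.isPGroup_o2 P) hg
  obtain ⟨n, hn, hnT⟩ := syl_conj hsyl hT
  rw [cj_cj] at hnT
  have hKT : K ≤ cj (n * g) (S : Subgroup G) := (hK.trans hQT).trans hnT.ge
  have hwc := OM.Lev.Wc.wc_Lev hL
  have h1 : cj (n * g)⁻¹ K = K := hwc.eq _ (by
    have := cj_mono (n * g)⁻¹ hKT
    rwa [cj_inv_cj] at this)
  have h2 : cj (n * g) K = K := by
    conv_rhs => rw [← cj_cj_inv (n * g) K, h1]
  have h3 : cj (n * g) (zl (S : Subgroup G) P) ≤ zc K := by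
    have h4 := cj_mono (n * g) hVX
    rw [← NO3S.Level.zc_cj, h2] at h4
    exact h4
  rw [← cj_cj, cj_eq_of_mem_normalizer hn] at h3
  exact h3

/-- **The hypotheses at a level.** -/
theorem lhyp {ε : (Fin (2 ^ m + 1) → ZMod 2) → G} (h : Dat S P m ε) {K : Subgroup G}
    (hL : Lev (S : Subgroup G) K) (hK : K ≤ o2 P) (hJ : ∃ A ∈ BO (S : Subgroup G) K, ¬ A ≤ o2 P)
    (N : SymKM (S : Subgroup G) P (zl (S : Subgroup G) P) (cv (S : Subgroup G) P) 1 m) :
    LHyp S P m ε (zc K) := by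
  have hQS := NO3S.OneLine.o2_le S h.star.toIsPar
  have hcen := NoFF.LinesPlug.inf_eq_bot S h.nonLoc
  have hoz := (NO3S.OneLine.lev_eq FF.Glob.ffthmM h.ch2 h.star hL hK hcen hJ).1
  exact
    { h with
      elX := NO3S.OneLine.zc_elem K
      VX := (h.star.isLoc.zl_le S h.ch2).trans (hL.zc_o2_le hK hQS)
      XQ := (ChoiceSit.zc_le K).trans hK
      XP := (hL.le_norm_of_o2 hK hQS).trans (NO3S.Level.normalizer_le_zc K)
      oz := fun u hu hu2 hc => by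
        rw [← hoz]
        exact ChoiceBase.mem_zc.2 ⟨hu, by rw [pow_two]; exact hu2, hc⟩
      exA := fun i j hij => exists_exL h hL hK hJ N hij
      wc := fun g hg => wc_line h hL hK hg }

/-- The data from `SymKM`. -/
theorem dat (hch : IsCharacteristicTwoType G) (star : IsParS (S : Subgroup G) P)
    (nonLoc : NonLoc P (CZ (S : Subgroup G))) (hm : 2 ≤ m)
    (N : SymKM (S : Subgroup G) P (zl (S : Subgroup G) P) (cv (S : Subgroup G) P) 1 m) :
    Dat S P m (S5.Of.lab N.toSymK (le_trans (by norm_num) hm)) := by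
  have h1 : 1 ≤ m := le_trans (by norm_num) hm
  have hD : cv (S : Subgroup G) P = ⊥ :=
    NoFF.LinesPlug.inf_oddGen_eq_bot hch S star.toIsPar (NoFF.LinesPlug.inf_eq_bot S nonLoc)
  have hH := MinSimple.VModule.le_normalizer_zl (S : Subgroup G) P
  exact ⟨hch, star, nonLoc, hm, S5.Of.evenSet N.toSymK hD h1 hH, S5.Of.fix0 N.toSymK hD h1 hH star.isLoc.le⟩

/-- **LEMMA N at the stage `n`.** -/
theorem lemN_lev (h : HypN S P) {n : ℕ} (hn : lev (S : Subgroup G) n ≤ o2 P)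
    (hn1 : ¬ lev (S : Subgroup G) (n + 1) ≤ o2 P) (hm : 2 ≤ m)
    (N : SymKM (S : Subgroup G) P (zl (S : Subgroup G) P) (cv (S : Subgroup G) P) 1 m) {g : G}
    (hg : o2 P ≤ normalizer ((cj g (zl (S : Subgroup G) P) : Subgroup G) : Set G)) :
    g ∈ normalizer (zl (S : Subgroup G) P : Set G) :=
  (lhyp (dat h.ctx.char2 h.star h.nonLoc hm N) (lev_isLev _ n) hn
    (NO3S.exists_BO h.ctx.char2 h.star hn hn1) N).lemN hg

/-- **LEMMA N at the stage `-1`.** -/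
theorem lemN_neg (h : HypJ S P) (hm : 2 ≤ m)
    (N : SymKM (S : Subgroup G) P (zl (S : Subgroup G) P) (cv (S : Subgroup G) P) 1 m) {g : G}
    (h1 : cj g (zl (S : Subgroup G) P) ≤ o2 P)
    (h2 : o2 P ≤ normalizer ((cj g (zl (S : Subgroup G) P) : Subgroup G) : Set G)) :
    g ∈ normalizer (zl (S : Subgroup G) P : Set G) := by
  have hd := dat h.ctx.char2 h.star h.nonLoc hm N
  have h3 : 1 ≤ m := le_trans (by norm_num) hm
  have hD : cv (S : Subgroup G) P = ⊥ :=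
    NoFF.LinesPlug.inf_oddGen_eq_bot h.ctx.char2 S h.star.toIsPar (NoFF.LinesPlug.inf_eq_bot S h.nonLoc)
  have hH := MinSimple.VModule.le_normalizer_zl (S : Subgroup G) P
  have hb : NSix.CaseJ.Base.Hyp S P (S5.Of.lab N.toSymK h3) :=
    ⟨h.ctx.char2, h.star, hm, hd.ev, hd.fix0, fun A hA hoff a ha =>
      S5.Of.off N.toSymK hD h3 hH h.star.isLoc.le hA hoff ha, h.jnot⟩
  exact SN.J.N2.lemN hb h1 h2

end Cfsg.Agent.Omega.NO3S.Sym.LemN

end

section


/-!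
# `V_P` = even subsets of five letters, light case: `N_G(V)` permutes the five points

* `perm_of_norm` : `g ∈ N_G(V)` permutes the points `p i`;
* `odd_fix` : `g ∈ N_G(V)` of odd order which centralises `n = p 0 * p 1` centralises `p 0` and `p 1`;
* **`uni_odd`** : the field `uni` of `TwoB.DtB` from UNI.
-/

set_option autoImplicit false
set_option linter.unusedSectionVars false

namespace Cfsg.Agent.Omega.NO3S.Sym.UniOdd

open Subgroup Cfsg Cfsg.Agent.ZN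
open Cfsg.Agent.MinSimple.MinParabolic (IsMinPar)
open Cfsg.Agent.Omega.NTwo (Std nn aa)
open Cfsg.Agent.Omega.NO3S.Sym.Light (FiveL)
open Cfsg.Agent.Omega.NO3S.Sym.Exit (Five)

universe u

variable {G : Type u} [Group G] [Finite G] {S : Sylow 2 G} {P : Subgroup G} {p : Fin 5 → G}

section five

variable (h : FiveL S P p)
include h

/-- `N_G(V)` permutes the five points. -/
theorem perm_of_norm {g : G} (hg : g ∈ normalizer (zl (S : Subgroup G) P : Set G)) :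
    ∃ σ : Equiv.Perm (Fin 5), ∀ i, g * p i * g⁻¹ = p (σ i) := by
  have key : ∀ i, ∃ j, g * p i * g⁻¹ = p j := by
    intro i
    have h1 : g * p i * g⁻¹ ∈ zl (S : Subgroup G) P := (mem_normalizer_iff.1 hg _).1 (h.toFive.p_mem i)
    rcases h.toFive.elts h1 with h2 | h2 | ⟨j, k, hjk, h2⟩
    · exfalso
      have h3 : p i = 1 := by
        have := conj_eq_one_iff.1 h2
        exact this
      obtain ⟨x, -, hx⟩ := h.toFive.heavy i
      have h4 : p 4 = 1 := by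
        rw [h3] at hx
        exact conj_eq_one_iff.1 hx
      obtain ⟨x, -, hx⟩ := h.toFive.heavy 0
      rw [h4] at hx
      have h5 : p 0 = p 4 := by rw [h4, ← hx]; group
      exact absurd (h.std.inj h5) (by decide)
    · exact h2
    · exfalso
      obtain ⟨x, -, hx⟩ := h.toFive.heavy i
      obtain ⟨y, -, hy⟩ := h.toFive.lights hjk
      apply h.not_conj (y⁻¹ * g * x)
      calc y⁻¹ * g * x * p 4 * (y⁻¹ * g * x)⁻¹ = y⁻¹ * (g * (x * p 4 * x⁻¹) * g⁻¹) * y := by group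
        _ = y⁻¹ * (y * nn p * y⁻¹) * y := by rw [hx, h2, hy]
        _ = nn p := by group
  choose f hf using key
  have hinj : Function.Injective f := by
    intro i j hij
    apply h.std.inj
    have h1 := (hf i).trans ((congrArg p hij).trans (hf j).symm)
    exact mul_left_cancel (mul_right_cancel h1)
  exact ⟨Equiv.ofBijective f (Finite.injective_iff_bijective.1 hinj), hf⟩

/-- an element of odd order of `N_G(V)` which centralises `n` centralises `p 0`, `p 1`. -/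
theorem odd_fix {g : G} (hg : g ∈ normalizer (zl (S : Subgroup G) P : Set G)) (hn : g * nn p = nn p * g)
    (ho : Odd (orderOf g)) : g * p 0 = p 0 * g ∧ g * p 1 = p 1 * g := by
  obtain ⟨σ, hσ⟩ := perm_of_norm h hg
  have hpow : ∀ (k : ℕ) (i : Fin 5), g ^ k * p i * (g ^ k)⁻¹ = p ((σ ^ k) i) := by
    intro k
    induction k with
    | zero => intro i; simp
    | succ k ih =>
      intro i
      have h1 : g ^ (k + 1) * p i * (g ^ (k + 1))⁻¹ = g ^ k * (g * p i * g⁻¹) * (g ^ k)⁻¹ := by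
        rw [pow_succ]; group
      rw [h1, hσ, ih, pow_succ, Equiv.Perm.mul_apply]
  have h01 : (σ 0 = 0 ∧ σ 1 = 1) ∨ (σ 0 = 1 ∧ σ 1 = 0) := by
    have h1 : g * nn p * g⁻¹ = nn p := by rw [hn]; group
    have h2 : g * (p 0 * p 1) * g⁻¹ = p (σ 0) * p (σ 1) := by
      rw [← hσ, ← hσ]; group
    rw [nn, h2] at h1
    exact h.std.pair_inj (fun e => absurd (σ.injective e) (by decide)) (by decide) h1
  obtain ⟨m, hm⟩ := ho
  have hfix : ∀ i, (σ ^ (orderOf g)) i = i := by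
    intro i
    have h1 := hpow (orderOf g) i
    rw [pow_orderOf_eq_one] at h1
    apply h.std.inj
    rw [← h1]; group
  have hgoal : σ 0 = 0 ∧ σ 1 = 1 := by
    rcases h01 with h1 | ⟨h1, h2⟩
    · exact h1
    exfalso
    have h3 : ∀ k : ℕ, (σ ^ (2 * k)) 0 = 0 := by
      intro k
      induction k with
      | zero => simp
      | succ k ih =>
        have e : 2 * (k + 1) = 2 * k + 1 + 1 := by ring
        rw [e, pow_succ, pow_succ, Equiv.Perm.mul_apply, Equiv.Perm.mul_apply, h1, h2, ih]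
    have h4 := hfix 1
    rw [hm, pow_succ, Equiv.Perm.mul_apply, h2, h3] at h4
    exact absurd h4 (by decide)
  constructor
  · have h1 := hσ 0
    rw [hgoal.1] at h1
    exact mul_inv_eq_iff_eq_mul.1 h1
  · have h1 := hσ 1
    rw [hgoal.2] at h1
    exact mul_inv_eq_iff_eq_mul.1 h1

/-- **The field `uni` of `TwoB.DtB`** (`C = C_G(n)`, `Z = ⟨a⟩`, `Y = ⟨p 0, p 1⟩`). -/
theorem uni_odd {T : Subgroup G}
    (hU : ∀ R : Subgroup G, IsMinPar T R → R ≤ centralizer ({nn p} : Set G) → ¬ R ≤ centralizer ({aa p} : Set G) →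
      R ≤ normalizer (zl (S : Subgroup G) P : Set G)) :
    ∀ R : Subgroup G, IsMinPar T R → R ≤ centralizer ({nn p} : Set G) →
      ¬ R ≤ centralizer ((closure {aa p} : Subgroup G) : Set G) →
      ∀ g ∈ R, Odd (orderOf g) → g ∈ centralizer ((closure {p 0, p 1} : Subgroup G) : Set G) := by
  intro R hR hRn hRa g hg ho
  rw [centralizer_closure] at hRa ⊢
  have hgn : g * nn p = nn p * g := (mem_centralizer_iff.1 (hRn hg) _ rfl).symm
  obtain ⟨h0, h1⟩ := odd_fix h (hU R hR hRn hRa hg) hgn ho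
  rw [mem_centralizer_iff]
  rintro y (rfl | hy)
  · exact h0.symm
  · rw [Set.mem_singleton_iff] at hy
    subst hy
    exact h1.symm

/-- the same for `Z = zpowers (aa p)` -/
theorem uni_odd_zpowers {T : Subgroup G}
    (hU : ∀ R : Subgroup G, IsMinPar T R → R ≤ centralizer ({nn p} : Set G) → ¬ R ≤ centralizer ({aa p} : Set G) →
      R ≤ normalizer (zl (S : Subgroup G) P : Set G)) :
    ∀ R : Subgroup G, IsMinPar T R → R ≤ centralizer ({nn p} : Set G) →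
      ¬ R ≤ centralizer ((zpowers (aa p) : Subgroup G) : Set G) →
      ∀ g ∈ R, Odd (orderOf g) → g ∈ centralizer ((closure {p 0, p 1} : Subgroup G) : Set G) := by
  intro R hR hRn hRa
  rw [zpowers_eq_closure] at hRa
  exact uni_odd h hU R hR hRn hRa

end five

end Cfsg.Agent.Omega.NO3S.Sym.UniOdd

end

section


/-!
# `V_P` = even subsets of five letters: no minimal parabolic of smaller stage over `T` moves `Ω₁(Z(T))`

`FiveL S P p`, `Ln S P n L W Z C A 2` with `ι = Fin 2` (two pairs), `Id5` : `B = T = Std.T S p`,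
`Z 0 = ⟨n⟩`, `Z 1 = ⟨a⟩`, `W 0 = {1, n, p 0 p 4, p 1 p 4}`, `W 1 = {1, a, p 2 p 4, p 3 p 4}`:

* `Tor.line_five`, `res_five` : the line of the torus block, the frame `TwoRes.Res`;
* **`low_five`** : a minimal parabolic of smaller stage over `T` centralises `Ω₁(Z(T))`.
-/

set_option autoImplicit false
set_option linter.unusedSectionVars false

namespace Cfsg.Agent.Omega.NO3S.Sym.LowFive

open Subgroup Cfsg Cfsg.Agent.ZN Cfsg.Agent.ZN.ChoiceBase
open Cfsg.Agent.ZN.ChoiceSit (Syl)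
open Cfsg.Agent.MinSimple.MinParabolic (IsMinPar)
open Cfsg.Agent.Omega.MinPar (IsLoc IsPar IsParS)
open Cfsg.Agent.Omega.NO3S.Level (lev lev_mono lev_isLev lev_le)
open Cfsg.Agent.Omega.OM.SwapL (Ln ZL)
open Cfsg.Agent.Omega.OM
open Cfsg.Agent.Omega.OM.GLev
open Cfsg.Agent.Omega.OM.Lev.Uni (FrL)
open Cfsg.Agent.Omega.OM.Lev.Low
open Cfsg.Agent.Omega.FFThm (NatKM)
open Cfsg.Agent.Omega.FrameFF (cv)
open Cfsg.Agent.Omega.SQ1.Bau (elem_comm elem_sq card_sup_comm)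
open Cfsg.Agent.Omega.NTwo (Std nn aa)
open Cfsg.Agent.Omega.NO3S.Sym.Light (FiveL)
open scoped commutatorElement

universe u

variable {G : Type u} [Group G] [Finite G]

/-- The two pairs of the frame are `{0, 1}`, `{2, 3}`. -/
structure Id5 (S B : Subgroup G) (W Z : Fin 2 → Subgroup G) (p : Fin 5 → G) : Prop where
  BT : B = Std.T S p
  Z0 : ∀ x, x ∈ Z 0 ↔ x = 1 ∨ x = nn p
  Z1 : ∀ x, x ∈ Z 1 ↔ x = 1 ∨ x = aa p
  W0 : ∀ x, x ∈ W 0 ↔ x = 1 ∨ x = nn p ∨ x = p 0 * p 4 ∨ x = p 1 * p 4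
  W1 : ∀ x, x ∈ W 1 ↔ x = 1 ∨ x = aa p ∨ x = p 2 * p 4 ∨ x = p 3 * p 4

section id5

variable {S : Sylow 2 G} {P B : Subgroup G} {W Z : Fin 2 → Subgroup G} {p : Fin 5 → G}
  (h : FiveL S P p) (hid : Id5 (S : Subgroup G) B W Z p)
include h hid

theorem BS : B ≤ (S : Subgroup G) := by rw [hid.BT]; exact Std.T_le

theorem idx {a b : G} (ha : a ∈ (S : Subgroup G)) (haB : a ∉ B) (hb : b ∈ (S : Subgroup G)) (hbB : b ∉ B) :
    a * b ∈ B := by
  rw [hid.BT] at haB hbB ⊢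
  have h1 := h.std.two_T (inv_mem ha) hb (fun h2 => haB ((inv_mem_iff).1 h2)) hbB
  rwa [inv_inv] at h1

theorem exists_out : ∃ s ∈ (S : Subgroup G), s ∉ B := by
  obtain ⟨s, hs, e⟩ := h.std.tau
  refine ⟨s, hs, fun hsB => h.std.n_ne_a ?_⟩
  rw [hid.BT] at hsB
  exact (Std.mem_T.1 hsB).2.symm.trans e

/-- `t ∈ S - B` moves `n` onto `a` -/
theorem cj_n {t : G} (ht : t ∈ (S : Subgroup G)) (htB : t ∉ B) : t * nn p * t⁻¹ = aa p :=
  (h.std.part t ht).resolve_left fun e => htB (by rw [hid.BT]; exact Std.mem_T.2 ⟨ht, e⟩)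

theorem cj_W0 {t : G} (ht : t ∈ (S : Subgroup G)) (htB : t ∉ B) {x : G} (hx : x ∈ W 0) : t * x * t⁻¹ ∈ W 1 := by
  have hn := cj_n h hid ht htB
  obtain ⟨σ, hσ⟩ := h.std.perm t (h.std.le ht)
  have h4 : σ 4 = 4 := by
    have h1 := h.std.fix t ht
    rw [hσ] at h1
    exact h.std.inj h1
  have h01 : (σ 0 = 2 ∧ σ 1 = 3) ∨ (σ 0 = 3 ∧ σ 1 = 2) := by
    rw [nn, NTwo.cm, hσ, hσ] at hn
    exact h.std.pair_inj (fun e => absurd (σ.injective e) (by decide)) (by decide) hn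
  rw [hid.W1]
  rcases (hid.W0 x).1 hx with rfl | rfl | rfl | rfl
  · left; group
  · right; left; exact hn
  · right; right
    rw [NTwo.cm, hσ, hσ, h4]
    rcases h01 with ⟨e, -⟩ | ⟨e, -⟩
    · left; rw [e]
    · right; rw [e]
  · right; right
    rw [NTwo.cm, hσ, hσ, h4]
    rcases h01 with ⟨-, e⟩ | ⟨-, e⟩
    · right; rw [e]
    · left; rw [e]

theorem cj_W1 {t : G} (ht : t ∈ (S : Subgroup G)) (htB : t ∉ B) {x : G} (hx : x ∈ W 1) : t * x * t⁻¹ ∈ W 0 := by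
  have hn := h.std.s_eq_conj ht (cj_n h hid ht htB)
  obtain ⟨σ, hσ⟩ := h.std.perm t (h.std.le ht)
  have h4 : σ 4 = 4 := by
    have h1 := h.std.fix t ht
    rw [hσ] at h1
    exact h.std.inj h1
  have h01 : (σ 2 = 0 ∧ σ 3 = 1) ∨ (σ 2 = 1 ∧ σ 3 = 0) := by
    rw [aa, NTwo.cm, hσ, hσ] at hn
    exact h.std.pair_inj (fun e => absurd (σ.injective e) (by decide)) (by decide) hn
  rw [hid.W0]
  rcases (hid.W1 x).1 hx with rfl | rfl | rfl | rfl
  · left; group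
  · right; left; exact hn
  · right; right
    rw [NTwo.cm, hσ, hσ, h4]
    rcases h01 with ⟨e, -⟩ | ⟨e, -⟩
    · left; rw [e]
    · right; rw [e]
  · right; right
    rw [NTwo.cm, hσ, hσ, h4]
    rcases h01 with ⟨-, e⟩ | ⟨-, e⟩
    · right; rw [e]
    · left; rw [e]

/-- an element of `S - B` interchanges `W 0` and `W 1` -/
theorem cj_W {t : G} (ht : t ∈ (S : Subgroup G)) (htB : t ∉ B) {i i' : Fin 2} (hii : i ≠ i') : cj t (W i) = W i' := by
  have htB' : t⁻¹ ∉ B := fun h1 => htB ((inv_mem_iff).1 h1)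
  have key : ∀ i i' : Fin 2, i ≠ i' → (i = 0 ∧ i' = 1) ∨ (i = 1 ∧ i' = 0) := by decide
  rcases key i i' hii with ⟨rfl, rfl⟩ | ⟨rfl, rfl⟩
  · apply le_antisymm
    · rintro _ ⟨x, hx, rfl⟩
      exact cj_W0 h hid ht htB hx
    · intro x hx
      refine ⟨t⁻¹ * x * t, ?_, by simp [MulAut.conj_apply]; group⟩
      have := cj_W1 h hid (inv_mem ht) htB' hx
      rwa [inv_inv] at this
  · apply le_antisymm
    · rintro _ ⟨x, hx, rfl⟩
      exact cj_W1 h hid ht htB hx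
    · intro x hx
      refine ⟨t⁻¹ * x * t, ?_, by simp [MulAut.conj_apply]; group⟩
      have := cj_W0 h hid (inv_mem ht) htB' hx
      rwa [inv_inv] at this

/-- `z = z_i z_i'` -/
theorem exists_pair {i i' : Fin 2} (hii : i ≠ i') : ∃ z1 ∈ Z i, ∃ z2 ∈ Z i', z1 ≠ 1 ∧ z2 ≠ 1 ∧ p 4 = z1 * z2 := by
  have key : ∀ i i' : Fin 2, i ≠ i' → (i = 0 ∧ i' = 1) ∨ (i = 1 ∧ i' = 0) := by decide
  rcases key i i' hii with ⟨rfl, rfl⟩ | ⟨rfl, rfl⟩
  · exact ⟨_, (hid.Z0 _).2 (Or.inr rfl), _, (hid.Z1 _).2 (Or.inr rfl), h.std.n_ne_one, h.std.a_ne_one, h.std.na.symm⟩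
  · exact ⟨_, (hid.Z1 _).2 (Or.inr rfl), _, (hid.Z0 _).2 (Or.inr rfl), h.std.a_ne_one, h.std.n_ne_one, h.std.an.symm⟩

/-- no element of `Z l` is conjugate to `w b`, `w ∈ W l - Z l`, `1 ≠ b ∈ Z_J ∩ C l` (light, heavy) -/
theorem heavy_light {l m : Fin 2} (hlm : l ≠ m) {z : G} (hz : z ∈ Z l) (hz1 : z ≠ 1) {w : G} (hw : w ∈ W l)
    (hwZ : w ∉ Z l) {b : G} (hb : b ∈ Z m) (hb1 : b ≠ 1) (g : G) : g * z * g⁻¹ ≠ w * b := by
  intro e
  -- `z` is light
  obtain ⟨y, hy⟩ : ∃ y : G, y * nn p * y⁻¹ = z := by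
    have key : ∀ l : Fin 2, l = 0 ∨ l = 1 := by decide
    rcases key l with rfl | rfl
    · rcases (hid.Z0 z).1 hz with e | e
      · exact absurd e hz1
      · exact ⟨1, by rw [e]; group⟩
    · rcases (hid.Z1 z).1 hz with e | e
      · exact absurd e hz1
      · obtain ⟨y, -, hy⟩ := h.lights (i := 2) (j := 3) (by decide)
        exact ⟨y, hy.trans e.symm⟩
  -- `w b` is heavy
  have c01 := h.std.comm 0 1
  have heavy : ∃ i, w * b = p i := by
    have key : ∀ l m : Fin 2, l ≠ m → (l = 0 ∧ m = 1) ∨ (l = 1 ∧ m = 0) := by decide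
    have hpp : ∀ i j k l : Fin 5, p i * p j * (p k * p l) = p i * (p j * p k) * p l := fun i j k l => by group
    rcases key l m hlm with ⟨rfl, rfl⟩ | ⟨rfl, rfl⟩
    · have hb' : b = aa p := ((hid.Z1 b).1 hb).resolve_left hb1
      have e4 : p 4 * aa p = nn p := by
        rw [h.std.a_eq, ← mul_assoc, ← h.std.ns, mul_assoc, h.std.sq, mul_one]
      rcases (hid.W0 w).1 hw with rfl | rfl | rfl | rfl
      · exact absurd (one_mem _) hwZ
      · exact absurd ((hid.Z0 _).2 (Or.inr rfl)) hwZ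
      · refine ⟨1, ?_⟩
        rw [hb', mul_assoc, e4, nn, ← mul_assoc, h.std.sq, one_mul]
      · refine ⟨0, ?_⟩
        rw [hb', mul_assoc, e4, nn, c01, ← mul_assoc, h.std.sq, one_mul]
    · have hb' : b = nn p := ((hid.Z0 b).1 hb).resolve_left hb1
      have e4 : p 4 * nn p = aa p := by rw [← h.std.ns, ← h.std.a_eq]
      rcases (hid.W1 w).1 hw with rfl | rfl | rfl | rfl
      · exact absurd (one_mem _) hwZ
      · exact absurd ((hid.Z1 _).2 (Or.inr rfl)) hwZ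
      · refine ⟨3, ?_⟩
        rw [hb', mul_assoc, e4, aa, ← mul_assoc, h.std.sq, one_mul]
      · refine ⟨2, ?_⟩
        rw [hb', mul_assoc, e4, aa, h.std.comm 2 3, ← mul_assoc, h.std.sq, one_mul]
  obtain ⟨i, hi⟩ := heavy
  obtain ⟨k, -, hk⟩ := h.heavy i
  refine h.not_conj (y⁻¹ * g⁻¹ * k) ?_
  calc y⁻¹ * g⁻¹ * k * p 4 * (y⁻¹ * g⁻¹ * k)⁻¹ = y⁻¹ * (g⁻¹ * (k * p 4 * k⁻¹) * g) * y := by group
    _ = y⁻¹ * (g⁻¹ * (g * z * g⁻¹) * g) * y := by rw [hk, ← hi, e]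
    _ = y⁻¹ * z * y := by group
    _ = nn p := by rw [← hy]; group

end id5

section main

variable {S : Sylow 2 G} {P : Subgroup G} {n : ℕ} {L W Z C A : Fin 2 → Subgroup G} {R : Subgroup G} {j : ℕ}
  {K N₁ c : Subgroup G} {τ : G} {p : Fin 5 → G}

/-- `Z_J ∩ C l = Z m` -/
theorem mem_Z_of {B Q V X ZJ : Subgroup G} (hf : FrL B Q V X ZJ L W Z C A 2) {l m : Fin 2} (hlm : l ≠ m) {b : G}
    (hb : b ∈ ZJ) (hbC : b ∈ C l) : b ∈ Z m := by
  refine Line.ZJ_C_le hf (l := l) (N := Z m) (fun k hk => ?_) hb hbC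
  have key : ∀ l m k : Fin 2, l ≠ m → k ≠ l → k = m := by decide
  rw [key l m k hlm hk]

/-- **The line of the torus block is `W l`.** -/
theorem line_five (h : FiveL S P p) (hid : Id5 (S : Subgroup G) (SwapL.BL (S : Subgroup G) n) W Z p)
    (ht : TwoMain.Tor S P n L W Z C A R j K N₁ c τ)
    (hZ : ¬ R ≤ centralizer (zc (SwapL.BL (S : Subgroup G) n) : Set G)) (hV : c ≤ zl (S : Subgroup G) P) :
    ∃ i, c = W i ∧ ∀ m, m ≠ i → Z m ≤ centralizer (K : Set G) := by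
  have hyb := ht.inp.yk.yb
  have hfix : ∀ b ∈ SwapL.BL (S : Subgroup G) n, Mv (fun _ : Fin 1 => zc (lev (S : Subgroup G) j) ⊓ centralizer (K : Set G))
      (fun _ => c) b 0 0 := fun b hb => by
    obtain ⟨m, hm⟩ := hyb.perm b hb 0
    rwa [Subsingleton.elim m 0] at hm
  obtain ⟨i, h1, h2⟩ := LineFive.line5 ht.inp.ln.fr (c := c) (N := zc (lev (S : Subgroup G) j) ⊓ centralizer (K : Set G))
    (τ := τ)
    (fun l z hz hz1 w hw hwZ b hb hbC hb1 g => by
      obtain ⟨m, hlm⟩ : ∃ m, l ≠ m := by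
        have key : ∀ l : Fin 2, ∃ m, l ≠ m := by decide
        exact key l
      exact heavy_light h hid hlm hz hz1 hw hwZ (mem_Z_of ht.inp.ln.fr hlm hb hbC) hb1 g)
    hV ht.c4
    (fun x hx => hyb.fix 0 x ((lev_isLev (S : Subgroup G) j).zc_le_zc (lev_mono _ ht.inp.jn) (lev_le _ n) hx))
    (hyb.triv 0)
    (fun b hb x hx => by
      have h3 := (hfix b hb).2
      have h4 : b * x * b⁻¹ ∈ cj b c := ⟨x, hx, rfl⟩
      rwa [h3] at h4)
    (fun b hb x hx => by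
      have h3 := (hfix b hb).1
      have h4 : b * x * b⁻¹ ∈ cj b (zc (lev (S : Subgroup G) j) ⊓ centralizer (K : Set G)) := ⟨x, hx, rfl⟩
      rwa [h3] at h4)
    (fun hle => hZ ((ht.inp.yk.sup 0).trans (sup_le (NO3S.Level.le_centralizer_zc _) (by
      have e : zc (SwapL.BL (S : Subgroup G) n) = ZL (S : Subgroup G) n := LevB.zc_B S (n + 1)
      rw [e]
      exact le_centralizer_iff.1 (hle.trans inf_le_right)))))
    (fun x hx => by
      have h4 : τ * x * τ⁻¹ ∈ cj τ c := ⟨x, hx, rfl⟩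
      rwa [ht.τc] at h4) ht.τ1
  exact ⟨i, h1, fun m hm => (h2 m hm).trans inf_le_right⟩

/-- `|V_P| ≥ 16` -/
theorem card_V (hln : Ln S P n L W Z C A 2) : 16 ≤ Nat.card (zl (S : Subgroup G) P) := by
  have hW : ∀ i, Nat.card (W i) = 4 := fun i => by
    rw [(hln.fr.blk i).card, hln.fr.cardZ i]
  have h01 : W 0 ⊓ W 1 = ⊥ := by
    rw [eq_bot_iff, ← hln.fr.dir 0]
    exact inf_le_inf_left _ (hln.fr.WjC 0 1 (by decide))
  have h1 := card_sup_comm (A := W 0) (B := W 1) fun a ha b hb => hln.fr.Vc (hln.fr.WV 0 ha) (hln.fr.WV 1 hb)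
  rw [h01, Subgroup.card_bot, mul_one, hW, hW] at h1
  calc 16 = Nat.card ↥(W 0 ⊔ W 1) := h1.symm
    _ ≤ _ := Subgroup.card_le_of_le (sup_le (hln.fr.WV 0) (hln.fr.WV 1))

/-- **The instance of `Res`.** -/
theorem res_five (h : FiveL S P p) (hid : Id5 (S : Subgroup G) (SwapL.BL (S : Subgroup G) n) W Z p)
    (hln : Ln S P n L W Z C A 2) {M N₁ D K c : Subgroup G}
    {j : ℕ} (hj : j ≤ n) (hpb : PB (LevB.BL (S : Subgroup G) j) K M N₁ D 4)
    (hBN : SwapL.BL (S : Subgroup G) n ≤ normalizer ((⁅M, K⁆ : Subgroup G) : Set G))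
    (hyb : YB (SwapL.BL (S : Subgroup G) n) (zc (lev (S : Subgroup G) j))
      (fun _ : Fin 1 => zc (lev (S : Subgroup G) j) ⊓ centralizer (K : Set G)) (fun _ => c))
    (hc1 : c ≤ N₁) (hc2 : N₁ ≤ c ⊔ D) (hcD : c ⊓ D = ⊥) (hc4 : Nat.card c = 4) (hcV : c ≤ ⁅M, K⁆)
    {z1 z2 : G} (hz1 : z1 ≠ 1) (hz2 : z2 ≠ 1) (e : p 4 = z1 * z2) (h1 : z1 ∈ c) (h2V : z2 ∈ zl (S : Subgroup G) P)
    (h2 : z2 ∈ centralizer (K : Set G)) :
    TwoRes.Res S (SwapL.BL (S : Subgroup G) n) (LevB.BL (S : Subgroup G) j) (zc (lev (S : Subgroup G) j)) M N₁ D K c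
      (p 4) z1 z2 where
  BS := (SwapL.lb S n).BS
  SB := by rw [hid.BT]; exact h.std.le_norm_T
  idx := fun a ha haB b hb hbB => idx h hid ha haB hb hbB
  ne := exists_out h hid
  SX := ((lev_isLev (S : Subgroup G) j).S_norm).trans (NO3S.Level.normalizer_le_zc _)
  X2 := NO3S.OneLine.zc_elem _
  B0eq := rfl
  B0B := BL_mono (S : Subgroup G) (by omega : j ≤ n + 1)
  XB0 := by
    have h3 := LevB.zc_B S j
    rw [← h3]
    exact fun x hx => (ChoiceBase.mem_zc.1 hx).1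
  pb := hpb
  BN := hBN
  yb := hyb
  cN1 := hc1
  N1c := hc2
  cD := hcD
  c4 := hc4
  cV := hcV
  zz := ChoiceBase.mem_zc.2 ⟨h.std.mem 4, by rw [pow_two]; exact h.std.sq 4,
    fun s hs => mul_inv_eq_iff_eq_mul.1 (h.std.fix s hs)⟩
  zS := fun x hx hx1 => (h.std.zc4 x hx).resolve_left hx1
  ez := e
  z1c := h1
  z1n := hz1
  z2c := mem_inf.2 ⟨(hln.fr.VX.trans ((lev_isLev (S : Subgroup G) j).zc_le_zc (lev_mono _ hj) (lev_le _ n))) h2V, h2⟩
  z2n := hz2
  X16 := (card_V hln).trans (Subgroup.card_le_of_le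
    (hln.fr.VX.trans ((lev_isLev (S : Subgroup G) j).zc_le_zc (lev_mono _ hj) (lev_le _ n))))

/-- **`Res`, and (D)** -/
theorem exists_res (h : FiveL S P p) (hid : Id5 (S : Subgroup G) (SwapL.BL (S : Subgroup G) n) W Z p)
    (ht : TwoMain.Tor S P n L W Z C A R j K N₁ c τ)
    (hZ : ¬ R ≤ centralizer (zc (SwapL.BL (S : Subgroup G) n) : Set G)) (hV : c ≤ zl (S : Subgroup G) P) :
    ∃ z1 z2, TwoRes.Res S (SwapL.BL (S : Subgroup G) n) (LevB.BL (S : Subgroup G) j) (zc (lev (S : Subgroup G) j))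
        (zl (SwapL.BL (S : Subgroup G) n) R) N₁ (cv (SwapL.BL (S : Subgroup G) n) R) K c (p 4) z1 z2 ∧
      ∀ t ∈ (S : Subgroup G), t ∉ SwapL.BL (S : Subgroup G) n →
        cj t ⁅(⁅zl (SwapL.BL (S : Subgroup G) n) R, K⁆ : Subgroup G), LevB.BL (S : Subgroup G) j⁆ ≠
          ⁅(⁅zl (SwapL.BL (S : Subgroup G) n) R, K⁆ : Subgroup G), LevB.BL (S : Subgroup G) j⁆ := by
  obtain ⟨i, hcW, hZm⟩ := line_five h hid ht hZ hV
  obtain ⟨i', hii⟩ : ∃ i', i ≠ i' := by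
    have h5 : ∀ i : Fin 2, ∃ i', i ≠ i' := by decide
    exact h5 i
  obtain ⟨z1, hz1, z2, hz2, hz11, hz21, e⟩ := exists_pair h hid hii
  have hcl : c ≤ ⁅zl (SwapL.BL (S : Subgroup G) n) R, K⁆ := by
    refine ht.cl.trans ?_
    rw [commutator_le]
    intro x hx b hb
    have h1 := mul_mem hx ((mem_normalizer_iff.1 (ht.pb.LV (ht.pb.BL hb)) _).1 (inv_mem hx))
    have e : x * (b * x⁻¹ * b⁻¹) = ⁅x, b⁆ := by rw [commutatorElement_def]; group
    rwa [e] at h1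
  refine ⟨z1, z2, res_five h hid ht.inp.ln ht.inp.jn ht.pb ht.TV ht.inp.yk.yb ht.cN1 ht.N1c ht.cD ht.c4 hcl
    hz11 hz21 e ?_ (ht.inp.ln.fr.ZV i' hz2) (hZm i' (Ne.symm hii) hz2), fun t hs htB => ?_⟩
  · rw [hcW]
    exact (ht.inp.ln.fr.blk i).ZV hz1
  · intro he
    have hne := ht.inp.ln.fr.Ane i'
    push Not at hne
    obtain ⟨a, ha, w, hw, hne⟩ := hne
    apply hne
    have haB := ht.inp.ln.fr.AB i' ha
    refine ht.hat a haB (fun x hx => ht.inp.ln.fr.AC i' a ha x (ht.inp.ln.fr.WjC i' i (Ne.symm hii) (hcW ▸ hx))) w ?_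
    rw [← he]
    refine cj_mono t ht.cl ?_
    rw [hcW, cj_W h hid hs htB hii]
    exact hw

/-- **`⟨K, S⟩` is not local.** -/
theorem not_loc (h : FiveL S P p) (hid : Id5 (S : Subgroup G) (SwapL.BL (S : Subgroup G) n) W Z p)
    (ht : TwoMain.Tor S P n L W Z C A R j K N₁ c τ)
    (hall : ∀ R, IsParS (S : Subgroup G) R → lev (S : Subgroup G) n ≤ o2 R)
    (hZ : ¬ R ≤ centralizer (zc (SwapL.BL (S : Subgroup G) n) : Set G)) :
    ¬ IsLoc (S : Subgroup G) (K ⊔ (S : Subgroup G)) := by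
  intro hL
  obtain ⟨z1, z2, hR, hD⟩ := exists_res h hid ht hZ (ht.le_V hZ)
  have hz1 : p 4 ≠ 1 := h.std.ne 4
  exact TwoEnd.false_of hR (H := R) ht.inp.syl.1 (ht.inp.yk.KY 0) (ht.inp.yk.sup 0)
    (MinSimple.VModule.le_normalizer_zl _ R) ht.line ht.τK ht.τc ht.τD ht.K_norm ht.inp.ln.hyp.ctx.char2 hL hD
    (TwoInst.gen_le S hL ht.inp.jn hall hR.zz hz1 hR.zS)

/-- **The torus block does not exist.** -/
theorem tor_false (h : FiveL S P p) (hid : Id5 (S : Subgroup G) (SwapL.BL (S : Subgroup G) n) W Z p)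
    (ht : TwoMain.Tor S P n L W Z C A R j K N₁ c τ)
    (hall : ∀ R, IsParS (S : Subgroup G) R → lev (S : Subgroup G) n ≤ o2 R)
    (hZ : ¬ R ≤ centralizer (zc (SwapL.BL (S : Subgroup G) n) : Set G)) : False := by
  obtain ⟨z1, z2, hR, hD⟩ := exists_res h hid ht hZ (ht.le_V hZ)
  exact not_loc h hid ht hall hZ (hR.isLoc hD)

/-- **A minimal parabolic of smaller stage over `T` centralises `Ω₁(Z(T))`** (the frame indexed by `Fin 2`). -/
theorem low_five_two (h : FiveL S P p) (hid : Id5 (S : Subgroup G) (SwapL.BL (S : Subgroup G) n) W Z p)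
    (hln : Ln S P n L W Z C A 2) (hall : ∀ R, IsParS (S : Subgroup G) R → lev (S : Subgroup G) n ≤ o2 R)
    (hP : IsMinPar (SwapL.BL (S : Subgroup G) n) R) (hR : Syl (SwapL.BL (S : Subgroup G) n) R)
    (hc : R ⊓ centralizer (o2 R : Set G) ≤ o2 R) (hn : ¬ lev (S : Subgroup G) n ≤ o2 R) :
    R ≤ centralizer (zc (SwapL.BL (S : Subgroup G) n) : Set G) := by
  by_contra hZ
  obtain ⟨j, K, N₁, c, τ, ht⟩ := TwoMain.exists_tor' hln hR hP hc hn hZ
  exact tor_false h hid ht hall hZ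

end main

end Cfsg.Agent.Omega.NO3S.Sym.LowFive

end

section


/-!
# `V_P` = even subsets of five letters: the two pairs of the frame

`FiveL S P p`, `FrL B Q V X ZJ L W Z C A 2` with `V = V_P`, `B = C_S(Z_J)`:

* `pair_of` : `Z i = ⟨n⟩` or `⟨a⟩`, a root element acts as `(0 1)` resp. `(2 3)`;
* `exists_id5` : after a relabelling `e : Fin 2 ≃ ι` the frame is `Id5`;
* `frl_reindex`, `ln_reindex`;
* **`low_five`** : a minimal parabolic of smaller stage over `B` centralises `Ω₁(Z(B))` (any index set).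
-/

set_option autoImplicit false
set_option linter.unusedSectionVars false

namespace Cfsg.Agent.Omega.NO3S.Sym.LowFive

open Subgroup Cfsg Cfsg.Agent.ZN Cfsg.Agent.ZN.ChoiceBase
open Cfsg.Agent.ZN.ChoiceSit (Syl)
open Cfsg.Agent.MinSimple.MinParabolic (IsMinPar)
open Cfsg.Agent.Omega.MinPar (IsLoc IsPar IsParS)
open Cfsg.Agent.Omega.NO3S.Level (lev lev_mono lev_isLev lev_le)
open Cfsg.Agent.Omega.OM.SwapL (Ln ZL)
open Cfsg.Agent.Omega.OM
open Cfsg.Agent.Omega.OM.Lev.Uni (FrL)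
open Cfsg.Agent.Omega.OM.Lev.Low
open Cfsg.Agent.Omega.NTwo (Std nn aa)
open Cfsg.Agent.Omega.NO3S.Sym.Light (FiveL)

universe u

variable {G : Type u} [Group G] [Finite G]

/-! ### Reindexing -/

/-- the frame over another index set -/
theorem frl_reindex {ι κ : Type*} {B Q V X ZJ : Subgroup G} {L W Z C A : ι → Subgroup G} {q : ℕ}
    (h : FrL B Q V X ZJ L W Z C A q) (e : κ ≃ ι) :
    FrL B Q V X ZJ (L ∘ e) (W ∘ e) (Z ∘ e) (C ∘ e) (A ∘ e) q where
  blk := fun i => h.blk (e i)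
  cardZ := fun i => h.cardZ (e i)
  QB := h.QB
  VQ := h.VQ
  elX := h.elX
  VX := h.VX
  mem_Q := h.mem_Q
  zcQ := h.zcQ
  mem_ZJ := h.mem_ZJ
  LV := fun i => h.LV (e i)
  LQ := fun i => h.LQ (e i)
  LX := fun i => h.LX (e i)
  WV := fun i => h.WV (e i)
  CV := fun i => h.CV (e i)
  WC := fun i => h.WC (e i)
  dir := fun i => h.dir (e i)
  C0 := fun x hx hc => h.C0 x hx fun i => by
    have := hc (e.symm i)
    simpa using this
  WjC := fun i j hij => h.WjC (e i) (e j) (e.injective.ne hij)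
  BC := fun i => h.BC (e i)
  LC := fun i => h.LC (e i)
  AB := fun i => h.AB (e i)
  AX := fun i => h.AX (e i)
  best := fun i => h.best (e i)
  Ane := fun i => h.Ane (e i)
  AC := fun i => h.AC (e i)

theorem ln_reindex {ι κ : Type} {S : Sylow 2 G} {P : Subgroup G} {n : ℕ} {L W Z C A : ι → Subgroup G} {q : ℕ}
    (h : Ln S P n L W Z C A q) (e : κ ≃ ι) : Ln S P n (L ∘ e) (W ∘ e) (Z ∘ e) (C ∘ e) (A ∘ e) q where
  hyp := h.hyp
  le := h.le
  fr := frl_reindex h.fr e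
  two := fun i => by
    obtain ⟨j, hj⟩ := h.two (e i)
    exact ⟨e.symm j, fun he => hj (by rw [← he]; simp)⟩

/-! ### Combinatorics -/

theorem perm_cases : ∀ σ : Equiv.Perm (Fin 5), σ 4 = 4 →
    ((σ 0 = 0 ∧ σ 1 = 1) ∨ (σ 0 = 1 ∧ σ 1 = 0) ∨ (σ 0 = 2 ∧ σ 1 = 3) ∨ (σ 0 = 3 ∧ σ 1 = 2)) →
    ∀ k, σ k ≠ k → (∀ k', σ k' ≠ k' → (σ k' = σ k ∧ k' = k) ∨ (σ k' = k ∧ k' = σ k)) →
    (σ = Equiv.swap 0 1 ∧ ((σ k = 0 ∧ k = 1) ∨ (σ k = 1 ∧ k = 0))) ∨
      (σ = Equiv.swap 2 3 ∧ ((σ k = 2 ∧ k = 3) ∨ (σ k = 3 ∧ k = 2))) := by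
  decide +kernel

theorem pt_cases : ∀ a b : Fin 5, a ≠ b →
    ¬ ((Equiv.swap (0 : Fin 5) 1 a = a ∧ Equiv.swap (0 : Fin 5) 1 b = b) ∨
      (Equiv.swap (0 : Fin 5) 1 a = b ∧ Equiv.swap (0 : Fin 5) 1 b = a)) →
    ((Equiv.swap (2 : Fin 5) 3 a = a ∧ Equiv.swap (2 : Fin 5) 3 b = b) ∨
      (Equiv.swap (2 : Fin 5) 3 a = b ∧ Equiv.swap (2 : Fin 5) 3 b = a)) →
    (a = 0 ∧ b = 4) ∨ (a = 1 ∧ b = 4) ∨ (a = 4 ∧ b = 0) ∨ (a = 4 ∧ b = 1) := by
  decide +kernel

theorem pt_cases' : ∀ a b : Fin 5, a ≠ b →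
    ¬ ((Equiv.swap (2 : Fin 5) 3 a = a ∧ Equiv.swap (2 : Fin 5) 3 b = b) ∨
      (Equiv.swap (2 : Fin 5) 3 a = b ∧ Equiv.swap (2 : Fin 5) 3 b = a)) →
    ((Equiv.swap (0 : Fin 5) 1 a = a ∧ Equiv.swap (0 : Fin 5) 1 b = b) ∨
      (Equiv.swap (0 : Fin 5) 1 a = b ∧ Equiv.swap (0 : Fin 5) 1 b = a)) →
    (a = 2 ∧ b = 4) ∨ (a = 3 ∧ b = 4) ∨ (a = 4 ∧ b = 2) ∨ (a = 4 ∧ b = 3) := by
  decide +kernel

section frame

variable {ι : Type} [Finite ι] {S : Sylow 2 G} {P B Q X ZJ : Subgroup G} {L W Z C A : ι → Subgroup G} {p : Fin 5 → G}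
  (h : FiveL S P p) (hf : FrL B Q (zl (S : Subgroup G) P) X ZJ L W Z C A 2) (hBS : B ≤ (S : Subgroup G))
include h hf hBS

/-- the root elements -/
theorem pair_of (i : ι) : ∃ t ∈ A i,
    ((∀ x, x ∈ Z i ↔ x = 1 ∨ x = nn p) ∧ ∀ k, t * p k * t⁻¹ = p (Equiv.swap 0 1 k)) ∨
    ((∀ x, x ∈ Z i ↔ x = 1 ∨ x = aa p) ∧ ∀ k, t * p k * t⁻¹ = p (Equiv.swap 2 3 k)) := by
  have hne := hf.Ane i
  push Not at hne
  obtain ⟨t, ht, w0, hw0, hne⟩ := hne
  have htS : t ∈ (S : Subgroup G) := hBS (hf.AB i ht)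
  obtain ⟨σ, hσ⟩ := h.std.perm t (h.std.le htS)
  have h4 : σ 4 = 4 := by
    have h1 := h.std.fix t htS
    rw [hσ] at h1
    exact h.std.inj h1
  have hpart : ((σ 0 = 0 ∧ σ 1 = 1) ∨ (σ 0 = 1 ∧ σ 1 = 0) ∨ (σ 0 = 2 ∧ σ 1 = 3) ∨ (σ 0 = 3 ∧ σ 1 = 2)) := by
    have hn01 : σ 0 ≠ σ 1 := fun e => absurd (σ.injective e) (by decide)
    rcases h.std.part t htS with e | e
    · rw [NTwo.cm, hσ, hσ] at e
      rcases h.std.pair_inj hn01 (by decide) e with h1 | h1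
      · exact Or.inl h1
      · exact Or.inr (Or.inl h1)
    · rw [NTwo.cm, hσ, hσ] at e
      rcases h.std.pair_inj hn01 (by decide) e with h1 | h1
      · exact Or.inr (Or.inr (Or.inl h1))
      · exact Or.inr (Or.inr (Or.inr h1))
  -- some letter is moved
  obtain ⟨k, hk⟩ : ∃ k, σ k ≠ k := by
    by_contra hcon
    push Not at hcon
    apply hne
    have h1 : zl (S : Subgroup G) P ≤ centralizer ({t} : Set G) := by
      rw [h.gen, closure_le]
      rintro _ ⟨k, rfl⟩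
      rw [SetLike.mem_coe, mem_centralizer_singleton_iff]
      have h2 := hσ k
      rw [hcon k] at h2
      exact (mul_inv_eq_iff_eq_mul.1 h2).symm
    exact (mem_centralizer_singleton_iff.1 (h1 (hf.WV i hw0))).symm
  have hZ : ∀ k, p (σ k) * p k ∈ Z i := by
    intro k
    have h1 := hf.A_comm ht (h.p_mem k)
    rwa [hσ, h.std.pinv] at h1
  have hk' : ∀ k', σ k' ≠ k' → (σ k' = σ k ∧ k' = k) ∨ (σ k' = k ∧ k' = σ k) := by
    intro k' hk'
    exact h.std.pair_inj hk' hk (Line.Z_two hf (hZ k') (h.std.mul_ne_one hk') (hZ k) (h.std.mul_ne_one hk))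
  have hZmem : ∀ z, z ∈ Z i → z ≠ 1 → ∀ x, x ∈ Z i ↔ x = 1 ∨ x = z := by
    intro z hz hz1 x
    constructor
    · intro hx
      by_cases hx1 : x = 1
      · exact Or.inl hx1
      · exact Or.inr (Line.Z_two hf hx hx1 hz hz1)
    · rintro (rfl | rfl)
      · exact one_mem _
      · exact hz
  have hzk := hZmem _ (hZ k) (h.std.mul_ne_one hk)
  refine ⟨t, ht, ?_⟩
  rcases perm_cases σ h4 hpart k hk hk' with ⟨e, h1⟩ | ⟨e, h1⟩
  · left
    refine ⟨fun x => ?_, fun k => by rw [hσ, e]⟩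
    have e1 : p (σ k) * p k = nn p := by
      rcases h1 with ⟨e1, e2⟩ | ⟨e1, e2⟩
      · rw [e1, e2]
      · rw [e1, e2]; exact h.std.comm 1 0
    rw [hzk x, e1]
  · right
    refine ⟨fun x => ?_, fun k => by rw [hσ, e]⟩
    have e1 : p (σ k) * p k = aa p := by
      rcases h1 with ⟨e1, e2⟩ | ⟨e1, e2⟩
      · rw [e1, e2]
      · rw [e1, e2]; exact h.std.comm 3 2
    rw [hzk x, e1]

omit hBS in
theorem Z_inter {i j : ι} (hij : i ≠ j) {x : G} (hi : x ∈ Z i) (hj : x ∈ Z j) : x = 1 :=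
  Line.one_of hf (Line.ZW hf i hi) (hf.WjC i j hij (Line.ZW hf j hj))

/-- `W i` is generated by `Z i` and one more light element -/
theorem exists_light (i : ι) {z : G} (hz : z ∈ Z i) (hz1 : z ≠ 1) (hzl : ∃ y : G, y * nn p * y⁻¹ = z) :
    ∃ a b, a ≠ b ∧ p a * p b ∈ W i ∧ p a * p b ∉ Z i := by
  obtain ⟨l, hl, hne, -⟩ := (hf.blk i).exists_mv
  have hw : l * z * l⁻¹ ∈ W i := (hf.blk i).nV l hl z (Line.ZW hf i hz)
  have hwZ : l * z * l⁻¹ ∉ Z i := by
    intro h1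
    apply hne
    have h2 : l * z * l⁻¹ ≠ 1 := fun e => hz1 (conj_eq_one_iff.1 e)
    have e := Line.Z_two hf h1 h2 hz hz1
    refine Subgroup.eq_of_le_of_card_ge ?_ (card_cj _ _).ge
    rintro _ ⟨x, hx, rfl⟩
    by_cases hx1 : x = 1
    · rw [hx1]; simp [one_mem]
    · rw [Line.Z_two hf hx hx1 hz hz1]
      exact h1
  obtain ⟨y, hy⟩ := hzl
  rcases h.elts (hf.WV i hw) with e | ⟨a, e⟩ | ⟨a, b, hab, e⟩
  · exact absurd (by rw [e]; exact one_mem _) hwZ
  · exfalso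
    obtain ⟨k, -, hk⟩ := h.heavy a
    refine h.not_conj (y⁻¹ * l⁻¹ * k) ?_
    calc y⁻¹ * l⁻¹ * k * p 4 * (y⁻¹ * l⁻¹ * k)⁻¹ = y⁻¹ * (l⁻¹ * (k * p 4 * k⁻¹) * l) * y := by group
      _ = y⁻¹ * (l⁻¹ * (l * z * l⁻¹) * l) * y := by rw [hk, e]
      _ = y⁻¹ * z * y := by group
      _ = nn p := by rw [← hy]; group
  · exact ⟨a, b, hab, by rw [← e]; exact hw, by rw [← e]; exact hwZ⟩

omit [Finite ι] hBS h in
/-- the elements of `W i` -/
theorem mem_W {i : ι} {z w : G} (hz : ∀ x, x ∈ Z i ↔ x = 1 ∨ x = z) (hz1 : z ≠ 1) (hw : w ∈ W i) (hwZ : w ∉ Z i) (x : G) :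
    x ∈ W i ↔ x = 1 ∨ x = z ∨ x = w ∨ x = z * w := by
  have hzm : z ∈ Z i := (hz z).2 (Or.inr rfl)
  have hZW := Line.ZW hf i
  constructor
  · intro hx
    by_cases hxZ : x ∈ Z i
    · rcases (hz x).1 hxZ with e | e
      · exact Or.inl e
      · exact Or.inr (Or.inl e)
    · have hWc : Nat.card (W i) = 4 := by rw [(hf.blk i).card, hf.cardZ i]
      have hidx : ((Z i).subgroupOf (W i)).index = 2 := by
        have e1 := Subgroup.card_mul_index ((Z i).subgroupOf (W i))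
        have e2 : Nat.card ((Z i).subgroupOf (W i)) = 2 := by
          rw [Nat.card_congr (subgroupOfEquivOfLe hZW).toEquiv, hf.cardZ i]
        rw [e2, hWc] at e1
        omega
      have h5 := Subgroup.mul_mem_iff_of_index_two hidx (a := ⟨x, hx⟩) (b := ⟨w, hw⟩⁻¹)
      have h6 : ((⟨x, hx⟩ * ⟨w, hw⟩⁻¹ : W i) : G) = x * w⁻¹ := rfl
      rw [mem_subgroupOf, mem_subgroupOf, mem_subgroupOf, h6] at h5
      have h7 : x * w⁻¹ ∈ Z i := h5.2 (iff_of_false hxZ fun h7 => hwZ (by simpa using h7))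
      rcases (hz _).1 h7 with e | e
      · right; right; left
        exact mul_inv_eq_one.1 e
      · right; right; right
        exact mul_inv_eq_iff_eq_mul.1 e
  · rintro (rfl | rfl | rfl | rfl)
    · exact one_mem _
    · exact hZW hzm
    · exact hw
    · exact mul_mem (hZW hzm) hw

/-- `W i` for the pair `{0, 1}` -/
theorem W_zero {i j : ι} (hij : i ≠ j) (hZi : ∀ x, x ∈ Z i ↔ x = 1 ∨ x = nn p)
    {t s : G} (ht : t ∈ A i) (hti : ∀ k, t * p k * t⁻¹ = p (Equiv.swap 0 1 k))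
    (hs : s ∈ A j) (hsj : ∀ k, s * p k * s⁻¹ = p (Equiv.swap 2 3 k)) (x : G) :
    x ∈ W i ↔ x = 1 ∨ x = nn p ∨ x = p 0 * p 4 ∨ x = p 1 * p 4 := by
  obtain ⟨a, b, hab, hw, hwZ⟩ := exists_light h hf hBS i ((hZi _).2 (Or.inr rfl)) h.std.n_ne_one ⟨1, by group⟩
  have hmem := mem_W hf hZi h.std.n_ne_one hw hwZ
  -- `t` moves `w`
  have htw : t * (p a * p b) * t⁻¹ ≠ p a * p b := by
    intro e
    have hne := hf.Ane i
    push Not at hne
    obtain ⟨t', ht', w0, hw0, hne⟩ := hne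
    -- `t` centralises `W i`
    have hc : ∀ x ∈ W i, t * x * t⁻¹ = x := by
      intro x hx
      have hn : t * nn p * t⁻¹ = nn p := by
        rw [nn, NTwo.cm, hti, hti, Equiv.swap_apply_left, Equiv.swap_apply_right]
        exact h.std.comm 1 0
      rcases (hmem x).1 hx with rfl | rfl | rfl | rfl
      · group
      · exact hn
      · exact e
      · rw [NTwo.cm, hn, e]
    -- but `t` moves `p 0`
    obtain ⟨w, hw', c, hc', e0⟩ := hf.WC i (p 0) (h.p_mem 0)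
    have h1 : t * p 0 * t⁻¹ = p 0 := by
      rw [e0, NTwo.cm, hc w hw', hf.AC i t ht c hc', mul_inv_cancel_right]
    rw [hti, Equiv.swap_apply_left] at h1
    exact absurd (h.std.inj h1) (by decide)
  have hsw : s * (p a * p b) * s⁻¹ = p a * p b := by
    rw [hf.AC j s hs _ (hf.WjC j i (Ne.symm hij) hw), mul_inv_cancel_right]
  have hA : ¬ ((Equiv.swap (0 : Fin 5) 1 a = a ∧ Equiv.swap (0 : Fin 5) 1 b = b) ∨
      (Equiv.swap (0 : Fin 5) 1 a = b ∧ Equiv.swap (0 : Fin 5) 1 b = a)) := by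
    rintro (⟨e1, e2⟩ | ⟨e1, e2⟩)
    · apply htw
      rw [NTwo.cm, hti, hti, e1, e2]
    · apply htw
      rw [NTwo.cm, hti, hti, e1, e2]
      exact h.std.comm b a
  have hB : ((Equiv.swap (2 : Fin 5) 3 a = a ∧ Equiv.swap (2 : Fin 5) 3 b = b) ∨
      (Equiv.swap (2 : Fin 5) 3 a = b ∧ Equiv.swap (2 : Fin 5) 3 b = a)) := by
    rw [NTwo.cm, hsj, hsj] at hsw
    exact h.std.pair_inj (fun e => hab ((Equiv.swap (2 : Fin 5) 3).injective e)) hab hsw
  have e0 : nn p * (p 0 * p 4) = p 1 * p 4 := by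
    rw [nn, h.std.comm 0 1, mul_assoc, ← mul_assoc (p 0) (p 0), h.std.sq, one_mul]
  have e1 : nn p * (p 1 * p 4) = p 0 * p 4 := by
    rw [nn, mul_assoc, ← mul_assoc (p 1) (p 1), h.std.sq, one_mul]
  rw [hmem x]
  rcases pt_cases a b hab hA hB with ⟨rfl, rfl⟩ | ⟨rfl, rfl⟩ | ⟨rfl, rfl⟩ | ⟨rfl, rfl⟩
  · rw [e0]
  · rw [e1]; tauto
  · rw [h.std.comm 4 0, e0]
  · rw [h.std.comm 4 1, e1]; tauto

/-- `W i` for the pair `{2, 3}` -/
theorem W_one {i j : ι} (hij : i ≠ j) (hZi : ∀ x, x ∈ Z i ↔ x = 1 ∨ x = aa p)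
    {t s : G} (ht : t ∈ A i) (hti : ∀ k, t * p k * t⁻¹ = p (Equiv.swap 2 3 k))
    (hs : s ∈ A j) (hsj : ∀ k, s * p k * s⁻¹ = p (Equiv.swap 0 1 k)) (x : G) :
    x ∈ W i ↔ x = 1 ∨ x = aa p ∨ x = p 2 * p 4 ∨ x = p 3 * p 4 := by
  obtain ⟨y, -, hy⟩ := h.lights (i := 2) (j := 3) (by decide)
  obtain ⟨a, b, hab, hw, hwZ⟩ := exists_light h hf hBS i ((hZi _).2 (Or.inr rfl)) h.std.a_ne_one ⟨y, hy⟩
  have hmem := mem_W hf hZi h.std.a_ne_one hw hwZ
  have htw : t * (p a * p b) * t⁻¹ ≠ p a * p b := by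
    intro e
    have hc : ∀ x ∈ W i, t * x * t⁻¹ = x := by
      intro x hx
      have hn : t * aa p * t⁻¹ = aa p := by
        rw [aa, NTwo.cm, hti, hti, Equiv.swap_apply_left, Equiv.swap_apply_right]
        exact h.std.comm 3 2
      rcases (hmem x).1 hx with rfl | rfl | rfl | rfl
      · group
      · exact hn
      · exact e
      · rw [NTwo.cm, hn, e]
    obtain ⟨w, hw', c, hc', e0⟩ := hf.WC i (p 2) (h.p_mem 2)
    have h1 : t * p 2 * t⁻¹ = p 2 := by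
      rw [e0, NTwo.cm, hc w hw', hf.AC i t ht c hc', mul_inv_cancel_right]
    rw [hti, Equiv.swap_apply_left] at h1
    exact absurd (h.std.inj h1) (by decide)
  have hsw : s * (p a * p b) * s⁻¹ = p a * p b := by
    rw [hf.AC j s hs _ (hf.WjC j i (Ne.symm hij) hw), mul_inv_cancel_right]
  have hA : ¬ ((Equiv.swap (2 : Fin 5) 3 a = a ∧ Equiv.swap (2 : Fin 5) 3 b = b) ∨
      (Equiv.swap (2 : Fin 5) 3 a = b ∧ Equiv.swap (2 : Fin 5) 3 b = a)) := by
    rintro (⟨e1, e2⟩ | ⟨e1, e2⟩)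
    · apply htw
      rw [NTwo.cm, hti, hti, e1, e2]
    · apply htw
      rw [NTwo.cm, hti, hti, e1, e2]
      exact h.std.comm b a
  have hB : ((Equiv.swap (0 : Fin 5) 1 a = a ∧ Equiv.swap (0 : Fin 5) 1 b = b) ∨
      (Equiv.swap (0 : Fin 5) 1 a = b ∧ Equiv.swap (0 : Fin 5) 1 b = a)) := by
    rw [NTwo.cm, hsj, hsj] at hsw
    exact h.std.pair_inj (fun e => hab ((Equiv.swap (0 : Fin 5) 1).injective e)) hab hsw
  have e0 : aa p * (p 2 * p 4) = p 3 * p 4 := by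
    rw [aa, h.std.comm 2 3, mul_assoc, ← mul_assoc (p 2) (p 2), h.std.sq, one_mul]
  have e1 : aa p * (p 3 * p 4) = p 2 * p 4 := by
    rw [aa, mul_assoc, ← mul_assoc (p 3) (p 3), h.std.sq, one_mul]
  rw [hmem x]
  rcases pt_cases' a b hab hA hB with ⟨rfl, rfl⟩ | ⟨rfl, rfl⟩ | ⟨rfl, rfl⟩ | ⟨rfl, rfl⟩
  · rw [e0]
  · rw [e1]; tauto
  · rw [h.std.comm 4 2, e0]
  · rw [h.std.comm 4 3, e1]; tauto

/-- **The two pairs.** -/
theorem exists_id5 (htwo : ∀ i : ι, ∃ j, j ≠ i) (hB : B = (S : Subgroup G) ⊓ centralizer (ZJ : Set G)) :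
    ∃ e : Fin 2 ≃ ι, Id5 (S : Subgroup G) B (W ∘ e) (Z ∘ e) p := by
  classical
  -- an index exists
  have hι : Nonempty ι := by
    by_contra hemp
    rw [not_nonempty_iff] at hemp
    exact h.std.n_ne_one (hf.C0 _ h.n_mem fun i => (hemp.false i).elim)
  have hna := h.std.n_ne_a
  -- both pairs occur
  have key : ∀ i j, i ≠ j → (∀ x, x ∈ Z i ↔ x = 1 ∨ x = nn p) → ¬ ∀ x, x ∈ Z j ↔ x = 1 ∨ x = nn p := by
    intro i j hij h1 h2
    exact h.std.n_ne_one (Z_inter h hf hij ((h1 _).2 (Or.inr rfl)) ((h2 _).2 (Or.inr rfl)))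
  have key' : ∀ i j, i ≠ j → (∀ x, x ∈ Z i ↔ x = 1 ∨ x = aa p) → ¬ ∀ x, x ∈ Z j ↔ x = 1 ∨ x = aa p := by
    intro i j hij h1 h2
    exact h.std.a_ne_one (Z_inter h hf hij ((h1 _).2 (Or.inr rfl)) ((h2 _).2 (Or.inr rfl)))
  obtain ⟨i, j, hij, t, ht, s, hs, hZi, hti, hZj, hsj⟩ : ∃ i j, i ≠ j ∧ ∃ t ∈ A i, ∃ s ∈ A j,
      (∀ x, x ∈ Z i ↔ x = 1 ∨ x = nn p) ∧ (∀ k, t * p k * t⁻¹ = p (Equiv.swap 0 1 k)) ∧
      (∀ x, x ∈ Z j ↔ x = 1 ∨ x = aa p) ∧ (∀ k, s * p k * s⁻¹ = p (Equiv.swap 2 3 k)) := by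
    obtain ⟨i⟩ := hι
    obtain ⟨j, hji⟩ := htwo i
    obtain ⟨t, ht, h1⟩ := pair_of h hf hBS i
    obtain ⟨s, hs, h2⟩ := pair_of h hf hBS j
    rcases h1 with ⟨h1, h1'⟩ | ⟨h1, h1'⟩ <;> rcases h2 with ⟨h2, h2'⟩ | ⟨h2, h2'⟩
    · exact absurd h2 (key i j (Ne.symm hji) h1)
    · exact ⟨i, j, Ne.symm hji, t, ht, s, hs, h1, h1', h2, h2'⟩
    · exact ⟨j, i, hji, s, hs, t, ht, h2, h2', h1, h1'⟩
    · exact absurd h2 (key' i j (Ne.symm hji) h1)
  have hall : ∀ k, k = i ∨ k = j := by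
    intro k
    by_contra hcon
    push Not at hcon
    obtain ⟨u, hu, h1 | h1⟩ := pair_of h hf hBS k
    · exact key i k (Ne.symm hcon.1) hZi h1.1
    · exact key' j k (Ne.symm hcon.2) hZj h1.1
  let f : Fin 2 → ι := ![i, j]
  have hbij : Function.Bijective f := by
    constructor
    · intro a b hab
      fin_cases a <;> fin_cases b <;> simp [f] at hab ⊢
      · exact absurd hab hij
      · exact absurd hab.symm hij
    · intro k
      rcases hall k with rfl | rfl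
      · exact ⟨0, rfl⟩
      · exact ⟨1, rfl⟩
  refine ⟨Equiv.ofBijective f hbij, ?_, ?_, ?_, ?_, ?_⟩
  · apply le_antisymm
    · intro b hb
      refine Std.mem_T.2 ⟨hBS hb, ?_⟩
      have h1 : nn p ∈ ZJ := hf.Z_le i ((hZi _).2 (Or.inr rfl))
      rw [((hf.mem_ZJ _).1 h1).2 b hb, mul_inv_cancel_right]
    · intro b hb
      obtain ⟨hbS, hbn⟩ := Std.mem_T.1 hb
      have hba := h.std.T_a hb
      rw [hB]
      refine mem_inf.2 ⟨hbS, ?_⟩
      have h1 : ZJ ≤ centralizer ({b} : Set G) := by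
        refine zj_le hf fun k => ?_
        intro x hx
        rw [mem_centralizer_singleton_iff]
        rcases hall k with rfl | rfl
        · rcases (hZi x).1 hx with rfl | rfl
          · simp
          · exact (mul_inv_eq_iff_eq_mul.1 hbn).symm
        · rcases (hZj x).1 hx with rfl | rfl
          · simp
          · exact (mul_inv_eq_iff_eq_mul.1 hba).symm
      rw [mem_centralizer_iff]
      intro x hx
      exact mem_centralizer_singleton_iff.1 (h1 hx)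
  · exact hZi
  · exact hZj
  · exact W_zero h hf hBS hij hZi ht hti hs hsj
  · exact W_one h hf hBS (Ne.symm hij) hZj hs hsj ht hti

end frame

/-- **A minimal parabolic of smaller stage over `B` centralises `Ω₁(Z(B))`.** -/
theorem low_five {ι : Type} [Finite ι] {S : Sylow 2 G} {P : Subgroup G} {n : ℕ} {L W Z C A : ι → Subgroup G}
    {p : Fin 5 → G} {R : Subgroup G} (h : FiveL S P p) (hln : Ln S P n L W Z C A 2)
    (hall : ∀ R, IsParS (S : Subgroup G) R → lev (S : Subgroup G) n ≤ o2 R)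
    (hP : IsMinPar (SwapL.BL (S : Subgroup G) n) R) (hR : Syl (SwapL.BL (S : Subgroup G) n) R)
    (hc : R ⊓ centralizer (o2 R : Set G) ≤ o2 R) (hn : ¬ lev (S : Subgroup G) n ≤ o2 R) :
    R ≤ centralizer (zc (SwapL.BL (S : Subgroup G) n) : Set G) := by
  obtain ⟨e, hid⟩ := exists_id5 h hln.fr (SwapL.lb S n).BS hln.two rfl
  exact low_five_two h hid (ln_reindex hln e) hall hP hR hc hn

end Cfsg.Agent.Omega.NO3S.Sym.LowFive

end
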