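import Cfsg.Agent.Mrg.Omega.NO3S.Sym.LineFive
import Cfsg.Agent.Mrg.Omega.NO3S.LightB.Facts
import Cfsg.Agent.Mrg.Omega.Node.MulG
import Cfsg.Agent.Mrg.Omega.Node.SymOf
import Cfsg.Agent.Mrg.Omega.Node.ELXUni
import Cfsg.Agent.Mrg.Omega.LFive.FrameL

section


/-!
# LightL (E), `n = 5`: UNI over `T = C_S(n)` at every stage of `HypL` (helper604)

* `exists_fblk_neg` : stage `-1`: a minimal parabolic over `T ≥ B` is generated by `T` and an FF-block over `B`;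
* `norm_of_blk` : an FF-block `(L', V')` over `B` with `V' ≤ V`, `O₂(P) ≤ B ≤ S` normalises `V`, by LEMMA N;
* **`unn_of`** : `FiveL S P p`, `MulS S P K B ZJ .. 1 2`: every minimal parabolic `R ≤ C_G(n)` over `T` which moves `a`
  normalises `V`.
-/

set_option autoImplicit false
set_option linter.unusedSectionVars false
set_option linter.unusedVariables false

namespace Cfsg.Agent.Omega.NO3S.Sym.UnnOf

open Subgroup Cfsg Cfsg.Agent.PLocal.ThompsonJ Cfsg.Agent.ZN.ChoiceBase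
open Cfsg.Agent.ZN (jj zj bau zc zl o2)
open Cfsg.Agent.ZN.ChoiceSit
open Cfsg.Agent.MinSimple.MinParabolic (IsMinPar)
open Cfsg.Agent.Omega.MinPar (IsLoc IsPar IsParS)
open Cfsg.Agent.Omega.SQ1 Cfsg.Agent.Omega.SQ1.FFOne Cfsg.Agent.Omega.SQ1.FFSym
open Cfsg.Agent.Omega.LemmaK (Block WeakNormal)
open Cfsg.Agent.Omega.LemmaK.Main (le_normalizer_bau)
open Cfsg.Agent.Omega.FFThm (SymK SymKM)
open Cfsg.Agent.Omega.FrameFF (cv)
open Cfsg.Agent.Omega.NO3S (HypL HypN HypJ Hyp)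
open Cfsg.Agent.Omega.NO3S.Level (lev lev_mono lev_isLev lev_le)
open Cfsg.Agent.Omega.OM Cfsg.Agent.Omega.OM.Uni
open Cfsg.Agent.Omega.Node.MultiOf
open Cfsg.Agent.Omega.Node.SymOf
open Cfsg.Agent.Omega.NTwo (Std nn aa mem_cent)
open Cfsg.Agent.Omega.NO3S.Sym.Light (FiveL)
open Cfsg.Agent.Omega.NO3S.Sym.LowFive
open scoped Pointwise

universe u

/-! ### Stage `-1` : the block -/

theorem exists_fblk_neg {G : Type u} [Group G] [Finite G] (S : Sylow 2 G) {T H : Subgroup G} (hT : Syl T H)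
    (hB : bau (S : Subgroup G) ≤ T) (hP : IsMinPar T H)
    (hc : H ⊓ centralizer (o2 H : Set G) ≤ o2 H) (hJ : ¬ jj T ≤ o2 H)
    (hZ : ¬ H ≤ centralizer (zc T : Set G)) :
    ∃ L V : Subgroup G, L ≤ H ∧ BlkGen.FBlk (S : Subgroup G) L V ∧ H ≤ T ⊔ L := by
  have hbau : bau T = bau (S : Subgroup G) := LemmaK.Main.bau_eq S hT.2.1 hB
  have hw : WeakNormal 2 (bau T) := by
    rw [hbau]
    exact fun R hR hBR => le_normalizer_bau S hR hBR
  obtain ⟨A, hA, hoff⟩ := BlkGen.exists_off hT hP hc hJ hZ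
  obtain ⟨hno, hcon⟩ := FF.Glob.ffthm G T H hT hP hc ⟨A, hA.2.1.trans hT.1, hoff⟩
  have hm := SQ1.FFOne.minH_of hT hP hc
  rcases hcon with ⟨F, _, _, _, k, hk, ⟨M⟩⟩ | ⟨k, m, hk, hm2, ⟨M⟩⟩
  · have : Nonempty (Fin k) := ⟨⟨0, hk⟩⟩
    set N := (SQ1.FFOne.natKB_of hT hc hJ hk M).toFFK hm with hN
    obtain ⟨E, hE⟩ := N.toInK hm
    obtain ⟨L, hL⟩ := hE.exists_blk ⟨0, hk⟩
    have hpb := FBK.pb hm N hE hw hL
    have hF : BlkGen.FBlk (S : Subgroup G) L ⁅N.N ⟨0, hk⟩, L⁆ := by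
      exact ⟨⟨_, _, by rw [← hbau]; exact hpb.fb⟩, by rw [← hbau]; exact hpb.block hw⟩
    exact ⟨L, _, hL.LH hE, hF, hL.sup_T hE le_sup_left le_sup_right⟩
  · have h := syT_of hm hJ M hk (by omega) SQ1.FFOf.cv_le SQ1.FFOf.cv_norm
    obtain ⟨ι, J, X, Y, t, r, c⟩ := h.exists_ch
    have hin := c.main h Cfsg.Agent.Omega.SQ1.SymCyc.exists_pow
    obtain ⟨j, x, y, hTr⟩ := h.exists_tr
    obtain ⟨i, -⟩ := c.ex j x y hTr
    obtain ⟨L, hL⟩ := hin.exists_blk i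
    have hpb := FBS.pb hin hw hL
    have hF : BlkGen.FBlk (S : Subgroup G) L ⁅h.NN (J i) 0 (X i) (Y i), L⁆ := by
      exact ⟨⟨_, _, by rw [← hbau]; exact hpb.fb⟩, by rw [← hbau]; exact hpb.block hw⟩
    exact ⟨L, _, hL.LH hin, hF, hL.sup_T hin le_sup_left le_sup_right⟩

variable {G : Type u} [Group G] [Finite G] {S : Sylow 2 G} {P : Subgroup G} {p : Fin 5 → G}

/-! ### A block normalises `V` -/

/-- **A block over `B` normalises `V`.** -/
theorem norm_of_blk (h : FiveL S P p) {B L' V' Z' : Subgroup G} {q' : ℕ} (hF : FB B L' V' Z' q')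
    (hBS : B ≤ (S : Subgroup G)) (hQB : o2 P ≤ B) (hV' : V' ≤ zl (S : Subgroup G) P) (hV1 : V' ≠ ⊥)
    (lemN : ∀ g : G, cj g (zl (S : Subgroup G) P) ≤ o2 P →
      o2 P ≤ normalizer ((cj g (zl (S : Subgroup G) P) : Subgroup G) : Set G) →
        g ∈ normalizer (zl (S : Subgroup G) P : Set G)) :
    L' ≤ normalizer (zl (S : Subgroup G) P : Set G) := by
  have hSN : (S : Subgroup G) ≤ normalizer (zl (S : Subgroup G) P : Set G) :=
    h.star.isLoc.le.trans (MinSimple.VModule.le_normalizer_zl _ _)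
  have hQ : (S : Subgroup G) ⊓ centralizer (zl (S : Subgroup G) P : Set G) = o2 P :=
    IsParS.inf_centralizer S h.ctx.char2 h.star
  have hVQ : zl (S : Subgroup G) P ≤ o2 P := by
    rw [← hQ]
    exact le_inf h.V_le fun v hv => mem_centralizer_iff.2 fun w hw => h.V_comm hw hv
  -- `C_B(V')` is normalised by `L'`
  have hT : ∀ l ∈ L', ∀ x ∈ B, (∀ v ∈ V', x * v = v * x) →
      l * x * l⁻¹ ∈ B ∧ ∀ v ∈ V', (l * x * l⁻¹) * v = v * (l * x * l⁻¹) := by
    intro l hl x hx hxv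
    refine ⟨hF.cor l hl x hx hxv, fun v hv => ?_⟩
    have h1 := hF.nV l⁻¹ (inv_mem hl) v hv
    rw [inv_inv] at h1
    have h2 := hxv _ h1
    calc l * x * l⁻¹ * v = l * (x * (l⁻¹ * v * l)) * l⁻¹ := by group
      _ = l * (l⁻¹ * v * l * x) * l⁻¹ := by rw [h2]
      _ = v * (l * x * l⁻¹) := by group
  have hQV : ∀ x ∈ o2 P, ∀ v ∈ V', x * v = v * x := by
    intro x hx v hv
    rw [← hQ] at hx
    exact (mem_centralizer_iff.1 hx.2 v (hV' hv)).symm
  intro g hg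
  refine lemN g ?_ fun x hx => ?_
  · -- `V^g ≤ C_B(V') ≤ S` and `V^g` commutes with `V`
    obtain ⟨⟨x, hx⟩, hx1⟩ := Subgroup.ne_bot_iff_exists_ne_one.1 hV1
    have hx1' : x ≠ 1 := fun e => hx1 (Subtype.ext e)
    have hxg : x ∈ MulAut.conj g • zl (S : Subgroup G) P := by
      rw [NoFF.Basic.mem_conj]
      exact hV' (by
        have h1 := hF.nV g⁻¹ (inv_mem hg) x hx
        rwa [inv_inv] at h1)
    have hcomm := h.comm_of_inf (hV' hx) hx1' hxg
    rintro _ ⟨v, hv, rfl⟩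
    rw [← hQ]
    refine ⟨hBS (hT g hg v (hQB (hVQ hv)) (hQV v (hVQ hv))).1, mem_centralizer_iff.2 fun w hw => ?_⟩
    exact (mem_centralizer_iff.1 (hcomm hw) _ (smul_mem_pointwise_smul v (MulAut.conj g) _ hv)).symm
  · have h1 := (hT g⁻¹ (inv_mem hg) x (hQB hx) (hQV x hx)).1
    rw [← cj_normalizer, mem_cj]
    rw [inv_inv] at h1
    exact hSN (hBS h1)

/-! ### UNI over `T` -/

section main

variable {K B ZJ : Subgroup G} {ι : Type} {L W Z C : ι → Subgroup G}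

/-- LEMMA N at every stage. -/
theorem lemN_of (hM : MulS S P K B ZJ L W Z C 1 2) {g : G} (h1 : cj g (zl (S : Subgroup G) P) ≤ o2 P)
    (h2 : o2 P ≤ normalizer ((cj g (zl (S : Subgroup G) P) : Subgroup G) : Set G)) :
    g ∈ normalizer (zl (S : Subgroup G) P : Set G) := by
  obtain ⟨N⟩ := hM.sym
  have hy := hM.hyp
  have st := hM.stg
  clear hM
  cases st with
  | neg hj => exact LemN.lemN_neg ⟨hy.toHypN, hj⟩ le_rfl N h1 h2
  | lev n hall hn hn1 => exact LemN.lemN_lev hy.toHypN hn hn1 le_rfl N h2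

/-- **The block**: a minimal parabolic over `B` which moves `Ω₁(Z(B))` is generated by `B` and an FF-block. -/
theorem exists_block (hM : MulS S P K B ZJ L W Z C 1 2) (h : FiveL S P p) {R : Subgroup G} (hR : IsMinPar B R)
    (hs : Syl B R) (hc : R ⊓ centralizer (o2 R : Set G) ≤ o2 R) (hKR : ¬ K ≤ o2 R)
    (hZ : ¬ R ≤ centralizer (zc B : Set G)) :
    ∃ L' V' : Subgroup G, L' ≤ R ∧ FBl B L' V' ∧ R ≤ B ⊔ L' := by
  obtain ⟨N⟩ := hM.sym
  have hy := hM.hyp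
  have st := hM.stg
  clear hM
  cases st with
  | neg hj =>
    have hjj : jj (bau (S : Subgroup G)) = jj (S : Subgroup G) :=
      jj_eq_of_jj_le (jj_le_bau _) (bau_le _)
    obtain ⟨L', V', h1, h2, h3⟩ := exists_fblk_neg S hs le_rfl hR hc (by rw [hjj]; exact hKR) hZ
    exact ⟨L', V', h1, ⟨h2.fb, h2.blk⟩, h3⟩
  | lev n hall hn hn1 =>
    by_cases hlow : lev (S : Subgroup G) n ≤ o2 R
    · obtain ⟨L', V', h1, h2, h3⟩ := LevB.exists_fblk S (n := n) hs le_rfl hR hc hlow hKR hZ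
      exact ⟨L', V', h1, ⟨h2.fb, h2.blk⟩, h3⟩
    · exfalso
      obtain ⟨ι', hι', W', d, t, r, L', A', -, -, -, -, h2, hF⟩ := Lev.Sym.exists_sym_lev FF.Glob.ffthmM
        hy.toHyp.ctx.char2 hy.star (lev_isLev (S : Subgroup G) n) hn hy.toHyp.inf_eq_bot
        (NO3S.exists_BO hy.toHyp.ctx.char2 hy.star hn hn1) one_pos le_rfl N
      exact hZ (low_five (ι := ι') (n := n) h ⟨hy.toHypN, hn, hF, h2⟩ hall hR hs hc hlow)

/-- **UNI over `T = C_S(n)`, every stage of `HypL`.** -/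
theorem unn_of (hM : MulS S P K B ZJ L W Z C 1 2) (h : FiveL S P p) {R : Subgroup G}
    (hR : IsMinPar (Std.T (S : Subgroup G) p) R) (hRn : R ≤ centralizer ({nn p} : Set G))
    (hRa : ¬ R ≤ centralizer ({aa p} : Set G)) : R ≤ normalizer (zl (S : Subgroup G) P : Set G) := by
  have hlb := hM.lb
  obtain ⟨N⟩ := hM.sym
  obtain ⟨lf⟩ := ESym.Light.exists_light hM.hyp.toHypN hM.stg one_pos le_rfl N
  have hfi := lf.fi
  have htwo : ∀ i : lf.ι, ∃ j, j ≠ i := fun i => by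
    obtain ⟨j, hj, -⟩ := ESym.Light.exists_bro lf.sy lf.ch (by norm_num) i
    exact ⟨j, hj⟩
  obtain ⟨e, hid⟩ := exists_id5 h lf.frl hlb.BS htwo hlb.eqB
  have hBT := hid.BT
  have hs := Node.ELXUni.syl_T h hR.le hRn
  have hc := Node.ELXUni.char2_of_le h hR.le hRn
  have hQB : o2 P ≤ B := lf.frl.QB
  have hnB : nn p ∈ zc B := by
    rw [hBT]; exact h.std.mem_zcT.2 (Or.inr (Or.inl rfl))
  have hzB : aa p ∈ zc B := by
    rw [hBT]; exact h.std.mem_zcT.2 (Or.inr (Or.inr (Or.inl rfl)))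
  have hZJ : ∀ x ∈ zl (S : Subgroup G) P, x ∈ zc B → x ∈ ZJ := fun x hx hxB =>
    (lf.frl.mem_ZJ x).2 ⟨hx, fun b hb => (mem_zc.1 hxB).2.2 b hb⟩
  have hnJ := hZJ _ h.n_mem hnB
  have haJ := hZJ _ h.a_mem hzB
  have hZ : ¬ R ≤ centralizer (zc B : Set G) := fun hle =>
    hRa (hle.trans (centralizer_le (Set.singleton_subset_iff.2 hzB)))
  -- the level is not in `O₂(R)`
  have hKR : ¬ K ≤ o2 R := by
    intro hK
    apply hRa
    intro g hg
    have h1 : g ∈ normalizer (ZJ : Set G) := hlb.nrm _ (isPGroup_o2 R) hK (le_normalizer_o2 R hg)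
    obtain ⟨d, hd, n, hn, rfl⟩ := hlb.exists_frattini h1
    have hgn := mem_cent.1 (hRn hg)
    have hdn : d⁻¹ * nn p * d = nn p := by
      have := mem_centralizer_iff.1 (inv_mem hd) _ hnJ
      rw [← this, mul_assoc, inv_mul_cancel, mul_one]
    have hnn : n * nn p * n⁻¹ = nn p := by
      calc n * nn p * n⁻¹ = d⁻¹ * (d * n * nn p * (d * n)⁻¹) * d := by group
        _ = nn p := by rw [hgn, hdn]
    have hna := LightB.fix_of_norm h hnn (hBT ▸ hn)
    have hda := mem_centralizer_iff.1 hd _ haJ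
    rw [mem_cent]
    calc d * n * aa p * (d * n)⁻¹ = d * (n * aa p * n⁻¹) * d⁻¹ := by group
      _ = aa p := by rw [hna, ← hda, mul_assoc, mul_inv_cancel, mul_one]
  rw [← hBT] at hR hs
  obtain ⟨L', V', hL'R, hF, hsup⟩ := exists_block hM h hR hs hc hKR hZ
  obtain ⟨i, hi, -⟩ := lf.uni L' V' hF
  obtain ⟨⟨Z', q', hfb⟩, -⟩ := hF
  have hRL : R ≤ L' := hsup.trans (sup_le hfb.BL le_rfl)
  refine hRL.trans (norm_of_blk h hfb hlb.BS hQB (hi ▸ lf.frl.WV i) ?_ fun g h1 h2 => lemN_of hM h1 h2)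
  -- `V' ≠ 1`
  intro hbot
  obtain ⟨j, rfl⟩ := e.surjective i
  rw [hi] at hbot
  have hj : j = 0 ∨ j = 1 := by
    have h7 : ∀ a : Fin 2, a = 0 ∨ a = 1 := by decide
    exact h7 j
  rcases hj with rfl | rfl
  · exact h.std.n_ne_one (mem_bot.1 (hbot.le ((hid.W0 (nn p)).2 (Or.inr (Or.inl rfl)))))
  · exact h.std.a_ne_one (mem_bot.1 (hbot.le ((hid.W1 (aa p)).2 (Or.inr (Or.inl rfl)))))

end main

end Cfsg.Agent.Omega.NO3S.Sym.UnnOf

end

section


/-!
# `ELight K` (LightL (E), `HypL`) from the absurdity of the common frame `LF`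

UNI over `T` is `NO3S.Sym.UnnOf.unn_of`, the rest of `LF` is `lf_of_mulS`.
-/

set_option autoImplicit false

namespace Cfsg.Agent.Omega.LFive

open Subgroup Cfsg Cfsg.Agent.ZN Cfsg.Agent.Omega.MinPar Cfsg.Agent.Omega.Frame
open Cfsg.Agent.Omega.Node.MultiOf (NLoc KZ)
open Cfsg.Agent.Omega.Node.SymOf (MulS)
open Cfsg.Agent.Omega.NO3S.Sym.Light (FiveL)

universe u

/-- **`LF S P p` for `HypL`** (every stage), no hypothesis left. -/
theorem lf_of_light {G : Type u} [Group G] [Finite G] {S : Sylow 2 G} {P K' B ZJ : Subgroup G} {ι : Type}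
    {L W Z C : ι → Subgroup G} {p : Fin 5 → G} (hM : MulS S P K' B ZJ L W Z C 1 2) (hN : NLoc (KZ B ZJ))
    (h : FiveL S P p) : LF S P p :=
  lf_of_mulS hM hN h fun _ hR hRn hRa => NO3S.Sym.UnnOf.unn_of hM h hR hRn hRa

/-- **`ELight K`** -/
theorem eLight_of {K : Cls.{u}}
    (hF : ∀ (G : Type u) [Group G] [Finite G] (S : Sylow 2 G) (P : Subgroup G) (p : Fin 5 → G), ¬ LF S P p) :
    Node.SymOf.ELight K :=
  fun G _ _ _ S P _ _ _ _ _ _ _ _ hM hN p h => (hF G S P p (lf_of_light hM hN h)).elim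

end Cfsg.Agent.Omega.LFive

end
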